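import Cfsg.Agent.Lib.CharFocal.Duo.Main
import Cfsg.Agent.Lib.Transfer.Focal

/-!
For odd `p` the focal subgroup of `S` is the product of `S ∩ C(Z(S))'` and `S ∩ N(K)'`.

* `controls`, `focal_split`, `mem_focal_iff`
-/

set_option autoImplicit false

namespace Cfsg.Agent.CharFocal.Duo

open Subgroup
open scoped commutatorElement

universe u

variable {p : ℕ} [Fact p.Prime]

/-- Transfer is controlled by the two functors. -/
theorem controls {G : Type u} [Group G] [Finite G] (hp : p ≠ 2) :
    Cfsg.FamilyControlsTransferIn p ((fun W => Cfsg.inducedFunctor (G := G) W) '' family.{u} p) ⊤ := by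
  refine FunctorControl.controlsTransfer_induction (G := G) family_isCharPFunctor (fun X _ _ _ S h => ?_) G
    (FunctorControl.IsSec.refl G)
  obtain ⟨M, F, hB⟩ := base_of_transferMin h
  exact false_of_base hB hp

variable {G : Type u} [Group G] [Finite G]

/-- Fusion through a normal subgroup over the Sylow subgroup. -/
theorem focal_split (S : Sylow p G) (C : Subgroup G) [C.Normal] (hSC : (S : Subgroup G) ≤ C) :
    commutator G ⊓ (S : Subgroup G) ≤ ((S : Subgroup G) ⊓ ⁅C, C⁆) ⊔ ((S : Subgroup G) ⊓
      ⁅normalizer ((S : Subgroup G) : Set G), normalizer ((S : Subgroup G) : Set G)⁆) := by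
  set N := normalizer ((S : Subgroup G) : Set G)
  have htop : N ⊔ C = ⊤ := by
    have := PReduced.frattini_sylow_inf S C
    rwa [inf_eq_left.2 hSC] at this
  rw [← Transfer.focalSubgroup_eq_of_coprime _ (Transfer.coprime_index_relIndex_sylow S),
    Subgroup.focalSubgroup_def, closure_le]
  rintro _ ⟨hgS, x, hx, u, rfl⟩
  obtain ⟨c, hc, m, hm, rfl⟩ := mem_sup_of_normal_left.1 ((sup_comm C N).ge.trans le_rfl (htop.ge (mem_top u)))
  set y := m * x⁻¹ * m⁻¹
  have hy : y ∈ (S : Subgroup G) := (mem_normalizer_iff.1 hm x⁻¹).1 ((S : Subgroup G).inv_mem hx)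
  have h1 : ⁅x, m⁆ ∈ (S : Subgroup G) ⊓ ⁅N, N⁆ :=
    ⟨by
      rw [show ⁅x, m⁆ = x * y by simp [commutatorElement_def, y, mul_assoc]]
      exact (S : Subgroup G).mul_mem hx hy,
    commutator_mem_commutator (le_normalizer hx) hm⟩
  have e : ⁅x, c * m⁆ = ⁅x, m⁆ * ⁅y⁻¹, c⁆ := by simp [commutatorElement_def, y, mul_assoc]
  rw [e] at hgS ⊢
  refine mul_mem (mem_sup_right h1) (mem_sup_left ⟨?_, commutator_mem_commutator (hSC ((S : Subgroup G).inv_mem hy)) hc⟩)
  exact ((S : Subgroup G).mul_mem_cancel_left h1.1).1 hgS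

/-- The same inside an overgroup of `C`. -/
theorem focal_split_in (S : Sylow p G) {H C : Subgroup G} (hCH : C ≤ H) (hHC : H ≤ normalizer (C : Set G))
    (hSC : (S : Subgroup G) ≤ C) :
    (S : Subgroup G) ⊓ ⁅H, H⁆ ≤ ((S : Subgroup G) ⊓ ⁅C, C⁆) ⊔ ((S : Subgroup G) ⊓
      ⁅normalizer ((S : Subgroup G) : Set G), normalizer ((S : Subgroup G) : Set G)⁆) := by
  have hSH := hSC.trans hCH
  haveI : (C.subgroupOf H).Normal := Subgroup.normal_subgroupOf_of_le_normalizer hHC
  set S' : Sylow p ↥H := S.subtype hSH with hS'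
  have hS'map : (S' : Subgroup ↥H).map H.subtype = (S : Subgroup G) := by
    rw [hS', Sylow.coe_subtype]
    exact map_subgroupOf_eq_of_le hSH
  have h := map_mono (f := H.subtype)
    (focal_split S' (C.subgroupOf H) (by rw [hS', Sylow.coe_subtype]; exact fun x hx => hSC hx))
  intro x hx
  have hx' : x ∈ (commutator ↥H ⊓ (S' : Subgroup ↥H)).map H.subtype := by
    rw [Subgroup.map_inf _ _ _ H.subtype_injective, Subgroup.map_subtype_commutator, hS'map]
    exact ⟨hx.2, hx.1⟩
  refine (h.trans ?_) hx'
  have hnorm : (normalizer ((S' : Subgroup ↥H) : Set ↥H)).map H.subtype ≤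
      normalizer ((S : Subgroup G) : Set G) := by
    rw [← hS'map]
    exact Subgroup.le_normalizer_map _
  rw [Subgroup.map_sup, Subgroup.map_inf _ _ _ H.subtype_injective, Subgroup.map_inf _ _ _ H.subtype_injective,
    map_commutator, map_commutator, hS'map, map_subgroupOf_eq_of_le hCH]
  exact sup_le_sup le_rfl (inf_le_inf_left _ (commutator_mono hnorm hnorm))

/-- The product description. -/
theorem mem_focal_iff (hp : p ≠ 2) (S : Sylow p G) (g : G) :
    g ∈ (S : Subgroup G) ⊓ commutator G ↔
      ∃ a ∈ (S : Subgroup G) ⊓ ⁅centralizer (((S : Subgroup G) ⊓ centralizer ((S : Subgroup G) : Set G) :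
          Subgroup G) : Set G),
        centralizer (((S : Subgroup G) ⊓ centralizer ((S : Subgroup G) : Set G) : Subgroup G) : Set G)⁆,
      ∃ b ∈ (S : Subgroup G) ⊓ ⁅normalizer ((Cfsg.inducedFunctor (kFun p) (S : Subgroup G) : Subgroup G) : Set G),
        normalizer ((Cfsg.inducedFunctor (kFun p) (S : Subgroup G) : Subgroup G) : Set G)⁆, g = a * b := by
  set Z := (S : Subgroup G) ⊓ centralizer ((S : Subgroup G) : Set G) with hZ
  set C := centralizer (Z : Set G) with hC
  set K := Cfsg.inducedFunctor (kFun p) (S : Subgroup G) with hK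
  set A := (S : Subgroup G) ⊓ ⁅C, C⁆
  set B := (S : Subgroup G) ⊓ ⁅normalizer (K : Set G), normalizer (K : Set G)⁆
  constructor
  · intro hg
    have hSC : (S : Subgroup G) ≤ C := fun s hs z hz => (hz.2 s hs).symm
    have hNK : normalizer ((S : Subgroup G) : Set G) ≤ normalizer (K : Set G) := by
      intro n hn
      let φ : ↥(S : Subgroup G) ≃* ↥(S : Subgroup G) :=
        ((MulAut.conj n).subgroupMap (S : Subgroup G)).trans
          (MulEquiv.subgroupCongr (mem_normalizer_iff_map_conj_eq.1 hn))
      rw [mem_normalizer_iff_map_conj_eq, hK, Cfsg.inducedFunctor]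
      conv_rhs => rw [← kFun_isCharPFunctor.2 _ _ S.2 φ]
      rw [Subgroup.map_map, Subgroup.map_map]
      rfl
    have hAn : (S : Subgroup G) ≤ normalizer (A : Set G) := by
      intro s hs
      rw [mem_normalizer_iff_map_conj_eq, Subgroup.map_inf _ _ _ (MulAut.conj s).injective, map_commutator,
        mem_normalizer_iff_map_conj_eq.1 (le_normalizer hs),
        mem_normalizer_iff_map_conj_eq.1 (le_normalizer (hSC hs))]
    have hle : (S : Subgroup G) ⊓ commutator G ≤ A ⊔ B := by
      rw [commutator_def, FunctorControl.controlsTransfer_at_top (𝓦 := family.{u} p) family_isCharPFunctor S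
        (controls hp)]
      refine iSup₂_le fun W hW => ?_
      rcases hW with rfl | rfl
      · rw [induced_cenFun, ← hZ]
        refine (focal_split_in S (centralizer_le_normalizer _) (fun n hn => ?_) hSC).trans
          (sup_le_sup le_rfl (inf_le_inf_left _ (commutator_mono hNK hNK)))
        rw [mem_normalizer_iff_map_conj_eq]
        exact (PushingUp.map_centralizer_equiv (MulAut.conj n) Z).trans
          (congrArg (fun X : Subgroup G => centralizer (X : Set G)) (mem_normalizer_iff_map_conj_eq.1 hn))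
      · exact le_sup_right
    obtain ⟨a, ha, b, hb, e⟩ : ∃ a ∈ A, ∃ b ∈ B, a * b = g := by
      have := hle hg
      rwa [← SetLike.mem_coe, coe_mul_of_right_le_normalizer_left A B (inf_le_left.trans hAn), Set.mem_mul] at this
    exact ⟨a, ha, b, hb, e.symm⟩
  · rintro ⟨a, ha, b, hb, rfl⟩
    exact mul_mem (inf_le_inf_left _ (commutator_mono le_top le_top) ha)
      (inf_le_inf_left _ (commutator_mono le_top le_top) hb)

end Cfsg.Agent.CharFocal.Duo
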