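import Cfsg.Agent.Lib.FFMinimal.Block
import Mathlib.GroupTheory.QuotientGroup.Basic
import Mathlib.GroupTheory.OrderOfElement
import Mathlib.GroupTheory.Coset.Card

/-!
A module of `PSL₂(q)`, `q` odd, that is the sum of the fixed spaces of two opposite unipotent groups, is
trivial.

* `eq_one_of_swap` : the linear algebra
* `fixed_of_split` : the statement for a group mapping onto `SL₂(q)`
-/

set_option autoImplicit false

namespace Cfsg.Agent.CharFocal.Duo

open Subgroup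
open scoped MatrixGroups
open RankOne (upSL loSL)

universe u v

/-- Two complementary subgroups fixed by `u` resp. `v` and exchanged by the involution `u v u`. -/
theorem eq_one_of_swap {W : Type v} [CommGroup W] (htwo : ∀ x : W, x * x = 1 → x = 1) {p : ℕ} (hp : Odd p)
    (u v : W →* W) (F₀ F₁ : Subgroup W) (hsup : ∀ x, ∃ a ∈ F₀, ∃ b ∈ F₁, x = a * b)
    (hinf : F₀ ⊓ F₁ = ⊥) (hu : ∀ a ∈ F₀, u a = a) (huinj : Function.Injective u)
    (hv : ∀ b ∈ F₁, v b = b) (hvp : ∀ x, v^[p] x = x)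
    (hn₀ : ∀ a ∈ F₀, u (v (u a)) ∈ F₁) (hn₁ : ∀ b ∈ F₁, u (v (u b)) ∈ F₀)
    (hnn : ∀ x, u (v (u (u (v (u x))))) = x) (x : W) : x = 1 := by
  choose A hA B hB hAB using hsup
  have huniq : ∀ {a b : W}, a ∈ F₀ → b ∈ F₁ → A (a * b) = a ∧ B (a * b) = b := by
    intro a b ha hb
    have e := hAB (a * b)
    have h1 : (A (a * b))⁻¹ * a = B (a * b) * b⁻¹ := by
      rw [inv_mul_eq_iff_eq_mul, ← mul_assoc, eq_mul_inv_iff_mul_eq]
      exact e
    have h2 : (A (a * b))⁻¹ * a ∈ F₀ ⊓ F₁ :=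
      Subgroup.mem_inf.2 ⟨mul_mem (inv_mem (hA _)) ha, by rw [h1]; exact mul_mem (hB _) (inv_mem hb)⟩
    rw [hinf, mem_bot] at h2
    rw [h2, eq_comm, mul_inv_eq_one] at h1
    exact ⟨inv_mul_eq_one.1 h2, h1⟩
  have hAinv : ∀ y, A y⁻¹ = (A y)⁻¹ ∧ B y⁻¹ = (B y)⁻¹ := fun y => by
    have := huniq (inv_mem (hA y)) (inv_mem (hB y))
    rwa [← mul_inv, ← hAB y] at this
  -- `g` and `n`
  let g : W → W := fun a => A (v a)
  have hn0 : ∀ a ∈ F₀, A (u (B (v a))) = (g a)⁻¹ ∧ B (u (B (v a))) = u (v (u a)) := by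
    intro a ha
    have e : u (v (u a)) = A (v a) * u (B (v a)) := by
      rw [hu a ha]
      conv_lhs => rw [hAB (v a)]
      rw [map_mul, hu _ (hA _)]
    have e' : u (B (v a)) = (g a)⁻¹ * u (v (u a)) := by rw [e, inv_mul_cancel_left]
    rw [e']
    exact huniq (inv_mem (hA _)) (hn₀ a ha)
  have hn1 : ∀ b ∈ F₁, u (v (u b)) = g (A (u b)) ∧ B (u b) = (B (v (A (u b))))⁻¹ := by
    intro b hb
    set a' := A (u b)
    set w := B (v a') * B (u b)
    have e : u (v (u b)) = g a' * u w := by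
      conv_lhs => rw [hAB (u b)]
      rw [map_mul v, hv _ (hB _), hAB (v a'), mul_assoc, map_mul u, hu _ (hA _)]
    have h1 : u w ∈ F₀ := by
      rw [show u w = (g a')⁻¹ * u (v (u b)) by rw [e, inv_mul_cancel_left]]
      exact mul_mem (inv_mem (hA _)) (hn₁ b hb)
    have h2 : w ∈ F₀ := by
      have h3 : u (u w) = u w := hu _ h1
      rw [← huinj h3]
      exact h1
    have h4 : w = 1 := by
      rw [← mem_bot, ← hinf]
      exact ⟨h2, mul_mem (hB _) (hB _)⟩
    refine ⟨?_, eq_inv_of_mul_eq_one_right h4⟩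
    rw [e, h4, map_one, mul_one]
  have hginv : ∀ a, g a⁻¹ = (g a)⁻¹ := fun a => by simp only [g, map_inv]; exact (hAinv _).1
  have hg3 : ∀ a ∈ F₀, g (g (g a)) = a⁻¹ := by
    intro a ha
    have hb : B (v a) ∈ F₁ := hB _
    obtain ⟨e1, e2⟩ := hn0 a ha
    obtain ⟨-, e3⟩ := hn1 _ hb
    rw [e1, e2, map_inv, (hAinv _).2, inv_inv] at e3
    -- `n a = B (v (g a))`
    obtain ⟨e4, -⟩ := hn1 _ (hn₀ a ha)
    rw [hnn] at e4
    rw [e3, (hn0 (g a) (hA _)).1, hginv] at e4
    rw [← inv_inv (g (g (g a))), ← e4]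
  have hiter : ∀ a ∈ F₀, ∀ k : ℕ, A (v^[k] a) = g^[k] a := by
    intro a ha k
    induction k with
    | zero =>
      have := (huniq ha (one_mem F₁)).1
      rwa [mul_one] at this
    | succ k ih =>
      rw [Function.iterate_succ_apply', Function.iterate_succ_apply', ← ih]
      set y := v^[k] a
      conv_lhs => rw [hAB y]
      rw [map_mul, hv _ (hB _), hAB (v (A y)), mul_assoc]
      exact (huniq (hA _) (mul_mem (hB _) (hB _))).1
  have hgp : ∀ a ∈ F₀, g^[p] a = a := fun a ha => by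
    rw [← hiter a ha, hvp]
    have := (huniq ha (one_mem F₁)).1
    rwa [mul_one] at this
  have hF : ∀ a ∈ F₀, a = 1 := by
    intro a ha
    have h1 : ∀ k : ℕ, ∀ b ∈ F₀, (g^[3])^[2 * k + 1] b = b⁻¹ := by
      intro k
      induction k with
      | zero => exact fun b hb => hg3 b hb
      | succ k ih =>
        intro b hb
        rw [show 2 * (k + 1) + 1 = (2 * k + 1) + 2 by ring, Function.iterate_add_apply]
        have e : (g^[3])^[2] b = b := by
          show g (g (g (g (g (g b))))) = b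
          rw [hg3 b hb, hginv, hginv, hginv, hg3 b hb, inv_inv]
        rw [e]
        exact ih b hb
    obtain ⟨k, hk⟩ := hp
    have e := h1 k a ha
    rw [← hk, ← Function.iterate_mul, mul_comm, Function.iterate_mul] at e
    have e2 : (g^[p])^[3] a = a := by
      show g^[p] (g^[p] (g^[p] a)) = a
      rw [hgp a ha, hgp a ha, hgp a ha]
    rw [e2] at e
    exact htwo a (mul_eq_one_iff_eq_inv.2 e)
  have hA1 := hF _ (hA x)
  have hB1 : B x = 1 := by
    have h := hnn (B x)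
    rw [hF _ (hn₁ _ (hB x))] at h
    simpa using h.symm
  rw [hAB x, hA1, hB1, mul_one]

/-- The Weyl element. -/
def nSL (F : Type) [Field F] : SL(2, F) := upSL 1 * loSL (-1) * upSL 1

theorem nSL_sq (F : Type) [Field F] : nSL F * nSL F = -1 := by
  apply Subtype.ext
  ext i j
  fin_cases i <;> fin_cases j <;>
    simp [nSL, Matrix.SpecialLinearGroup.coe_mul, Matrix.mul_apply, Fin.sum_univ_two, RankOne.coe_upSL,
      RankOne.coe_loSL]

theorem nSL_up {F : Type} [Field F] (t : F) : nSL F * upSL t = loSL (-t) * nSL F := by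
  apply Subtype.ext
  ext i j
  fin_cases i <;> fin_cases j <;>
    simp [nSL, Matrix.SpecialLinearGroup.coe_mul, Matrix.mul_apply, Fin.sum_univ_two, RankOne.coe_upSL,
      RankOne.coe_loSL]

theorem nSL_lo {F : Type} [Field F] (t : F) : nSL F * loSL t = upSL (-t) * nSL F := by
  apply Subtype.ext
  ext i j
  fin_cases i <;> fin_cases j <;>
    simp [nSL, Matrix.SpecialLinearGroup.coe_mul, Matrix.mul_apply, Fin.sum_univ_two, RankOne.coe_upSL,
      RankOne.coe_loSL]

variable {L : Type u} [Group L] {V : Type v} [CommGroup V] [Finite V]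

/-- The elements mapping to `±1`. -/
def sgnKer {F : Type} [Field F] (π : L →* SL(2, F)) : Subgroup L where
  carrier := {l | π l = 1 ∨ π l = -1}
  one_mem' := Or.inl (map_one π)
  mul_mem' := by
    intro a b ha hb
    show π (a * b) = 1 ∨ π (a * b) = -1
    rw [map_mul]
    rcases ha with ha | ha <;> rcases hb with hb | hb <;> rw [ha, hb] <;> simp
  inv_mem' := by
    intro a ha
    show π a⁻¹ = 1 ∨ π a⁻¹ = -1
    rw [map_inv]
    rcases ha with ha | ha <;> rw [ha]
    · simp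
    · exact Or.inr (inv_eq_of_mul_eq_one_right (by simp))

theorem sgnKer_normal {F : Type} [Field F] (π : L →* SL(2, F)) : (sgnKer π).Normal :=
  ⟨fun a ha l => by
    show π (l * a * l⁻¹) = 1 ∨ π (l * a * l⁻¹) = -1
    rcases ha with ha | ha <;> rw [map_mul, map_mul, map_inv, ha]
    · simp
    · right; simp⟩

/-- A fixed point of the preimage of `±1` that is a product of points fixed by upper and lower unipotent
elements is fixed by everything. -/
theorem fixed_of_split {F : Type} [Field F] [Finite F] {p : ℕ} [Fact p.Prime] [CharP F p] (hp : p ≠ 2)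
    (hV : IsPGroup p V) (α : L →* MulAut V) (π : L →* SL(2, F))
    (hcop : (Nat.card ↥((sgnKer π).map α)).Coprime p)
    (L₀ L₁ : Subgroup L) (hL₀ : ∀ t, ∃ l ∈ L₀, π l = upSL t) (hL₁ : ∀ t, ∃ l ∈ L₁, π l = loSL t)
    (hgen : ∀ x : V, ∃ a b, x = a * b ∧ (∀ l ∈ L₀, α l a = a) ∧ ∀ l ∈ L₁, α l b = b)
    {x : V} (hx : ∀ k ∈ sgnKer π, α k x = x) (l : L) : α l x = x := by
  classical
  haveI := Fintype.ofFinite F
  have hodd : Odd p := (Fact.out : p.Prime).odd_of_ne_two hp
  set Z := sgnKer π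
  haveI hZn : Z.Normal := sgnKer_normal π
  let V₀ : Subgroup V :=
    { carrier := {v | ∀ k ∈ Z, α k v = v}
      one_mem' := fun k _ => map_one _
      mul_mem' := fun {a b} ha hb k hk => by rw [map_mul, ha k hk, hb k hk]
      inv_mem' := fun {a} ha k hk => by rw [map_inv, ha k hk] }
  have hαmul : ∀ (a b : L) (v : V), α (a * b) v = α a (α b v) := fun a b v => by rw [map_mul]; rfl
  have hV₀ : ∀ l, ∀ v ∈ V₀, α l v ∈ V₀ := by
    intro l v hv k hk
    have h := hv (l⁻¹ * k * l) (by simpa using hZn.conj_mem k hk l⁻¹)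
    rw [← hαmul, show k * l = l * (l⁻¹ * k * l) by group, hαmul, h]
  -- averaging
  let Γ := Z.map α
  haveI : Fintype ↥Γ := Fintype.ofFinite _
  let av : V → V := fun v => ∏ γ : ↥Γ, (γ : MulAut V) v
  have hav : ∀ v, av v ∈ V₀ := by
    intro v k hk
    show α k (∏ γ : ↥Γ, (γ : MulAut V) v) = ∏ γ : ↥Γ, (γ : MulAut V) v
    rw [map_prod]
    exact Fintype.prod_equiv (Equiv.mulLeft (⟨α k, mem_map_of_mem α hk⟩ : ↥Γ)) _ _ fun γ => rfl
  have havc : ∀ (l : L) (v : V), α l (av v) = av (α l v) := by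
    intro l v
    show α l (∏ γ : ↥Γ, (γ : MulAut V) v) = ∏ γ : ↥Γ, (γ : MulAut V) (α l v)
    rw [map_prod]
    have hΓ : ∀ γ ∈ Γ, α l * γ * (α l)⁻¹ ∈ Γ := by
      rintro _ ⟨k, hk, rfl⟩
      exact ⟨l * k * l⁻¹, hZn.conj_mem k hk l, by simp⟩
    let e : ↥Γ → ↥Γ := fun γ => ⟨α l * γ * (α l)⁻¹, hΓ γ γ.2⟩
    have he : Function.Bijective e := Finite.injective_iff_bijective.1 fun a b h => Subtype.ext
      (mul_left_cancel (mul_right_cancel (congrArg Subtype.val h)))
    refine Fintype.prod_equiv (Equiv.ofBijective e he) _ _ fun γ => ?_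
    show α l ((γ : MulAut V) v) = (α l * γ * (α l)⁻¹) (α l v)
    simp
  have hsplit : ∀ v ∈ V₀, ∃ a ∈ V₀, ∃ b ∈ V₀, v = a * b ∧ (∀ l ∈ L₀, α l a = a) ∧ ∀ l ∈ L₁, α l b = b := by
    intro v hv
    obtain ⟨a, b, e, ha, hb⟩ := hgen v
    have h1 : av v = v ^ Nat.card ↥Γ := by
      show ∏ γ : ↥Γ, (γ : MulAut V) v = _
      rw [Nat.card_eq_fintype_card, ← Finset.card_univ, ← Finset.prod_const]
      refine Finset.prod_congr rfl fun γ _ => ?_
      obtain ⟨k, hk, e⟩ := γ.2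
      rw [← e, hv k hk]
    obtain ⟨n, hn⟩ := IsPGroup.iff_card.1 hV
    obtain ⟨j, hj⟩ : ∃ j, v = (v ^ Nat.card ↥Γ) ^ j := by
      have hco : (Nat.card ↥Γ).Coprime (orderOf v) := by
        refine Nat.Coprime.coprime_dvd_right ?_ (hcop.pow_right n)
        rw [← hn]; exact orderOf_dvd_natCard v
      obtain ⟨m, hm⟩ := exists_pow_eq_self_of_coprime hco
      exact ⟨m, hm.symm⟩
    refine ⟨av a ^ j, pow_mem (hav a) j, av b ^ j, pow_mem (hav b) j, ?_, fun l hl => ?_, fun l hl => ?_⟩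
    · rw [← mul_pow, hj, ← h1]
      congr 1
      show ∏ γ : ↥Γ, (γ : MulAut V) v = (∏ γ : ↥Γ, (γ : MulAut V) a) * ∏ γ : ↥Γ, (γ : MulAut V) b
      rw [← Finset.prod_mul_distrib]
      exact Finset.prod_congr rfl fun γ _ => by rw [e, map_mul]
    · rw [map_pow, havc, ha l hl]
    · rw [map_pow, havc, hb l hl]
  -- on `V₀` only the image in `SL₂` matters
  have hfac : ∀ v ∈ V₀, ∀ l l', (π l = π l' ∨ π l = -π l') → α l v = α l' v := by
    intro v hv l l' he
    have h := hv (l'⁻¹ * l) (by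
      show π (l'⁻¹ * l) = 1 ∨ π (l'⁻¹ * l) = -1
      rcases he with he | he <;> rw [map_mul, map_inv, he]
      · simp
      · right; simp)
    conv_lhs => rw [show l = l' * (l'⁻¹ * l) by group]
    rw [hαmul, h]
  let F₀ : Subgroup V :=
    { carrier := {v | v ∈ V₀ ∧ ∀ l t, π l = upSL t → α l v = v}
      one_mem' := ⟨one_mem _, fun l t _ => map_one _⟩
      mul_mem' := fun {a b} ha hb => ⟨mul_mem ha.1 hb.1, fun l t h => by rw [map_mul, ha.2 l t h, hb.2 l t h]⟩
      inv_mem' := fun {a} ha => ⟨inv_mem ha.1, fun l t h => by rw [map_inv, ha.2 l t h]⟩ }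
  let F₁ : Subgroup V :=
    { carrier := {v | v ∈ V₀ ∧ ∀ l t, π l = loSL t → α l v = v}
      one_mem' := ⟨one_mem _, fun l t _ => map_one _⟩
      mul_mem' := fun {a b} ha hb => ⟨mul_mem ha.1 hb.1, fun l t h => by rw [map_mul, ha.2 l t h, hb.2 l t h]⟩
      inv_mem' := fun {a} ha => ⟨inv_mem ha.1, fun l t h => by rw [map_inv, ha.2 l t h]⟩ }
  obtain ⟨lu, -, hlu⟩ := hL₀ 1
  obtain ⟨lv, -, hlv⟩ := hL₁ (-1)
  set ln := lu * lv * lu with hlndef
  have hln : π ln = nSL F := by rw [hlndef, map_mul, map_mul, hlu, hlv]; rfl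
  have hswap₀ : ∀ a ∈ F₀, α ln a ∈ F₁ := by
    intro a ha
    refine ⟨hV₀ _ _ ha.1, fun l t hl => ?_⟩
    rw [← hαmul, show l * ln = ln * (ln⁻¹ * l * ln) by group, hαmul,
      ha.2 (ln⁻¹ * l * ln) (-t) ?_]
    rw [map_mul, map_mul, map_inv, hl, hln, mul_assoc, inv_mul_eq_iff_eq_mul, nSL_up, neg_neg]
  have hswap₁ : ∀ a ∈ F₁, α ln a ∈ F₀ := by
    intro a ha
    refine ⟨hV₀ _ _ ha.1, fun l t hl => ?_⟩
    rw [← hαmul, show l * ln = ln * (ln⁻¹ * l * ln) by group, hαmul,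
      ha.2 (ln⁻¹ * l * ln) (-t) ?_]
    rw [map_mul, map_mul, map_inv, hl, hln, mul_assoc, inv_mul_eq_iff_eq_mul, nSL_lo, neg_neg]
  have hall : ∀ a ∈ F₀, a ∈ F₁ → ∀ l, α l a = a := by
    intro a h0 h1 l
    let St : Subgroup L :=
      { carrier := {l | α l a = a}
        one_mem' := by show α 1 a = a; rw [map_one]; rfl
        mul_mem' := fun {x y} hx hy => by show α (x * y) a = a; rw [hαmul, hy, hx]
        inv_mem' := fun {x} hx => by
          show α x⁻¹ a = a
          conv_lhs => rw [← show α x a = a from hx]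
          rw [← hαmul, inv_mul_cancel, map_one]; rfl }
    have hcl : π l ∈ St.map π := by
      have : (⊤ : Subgroup SL(2, F)) ≤ St.map π := by
        rw [← FFMinimal.closure_up_lo, closure_le]
        rintro _ (⟨t, rfl⟩ | ⟨t, rfl⟩)
        · obtain ⟨k, -, hk⟩ := hL₀ t
          exact ⟨k, h0.2 k t hk, hk⟩
        · obtain ⟨k, -, hk⟩ := hL₁ t
          exact ⟨k, h1.2 k t hk, hk⟩
      exact this (mem_top _)
    obtain ⟨k, hk, he⟩ := hcl
    rw [hfac a h0.1 l k (Or.inl he.symm)]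
    exact hk
  have hsum : ∀ v ∈ V₀, ∃ a ∈ F₀, ∃ b ∈ F₁, v = a * b := by
    intro v hv
    obtain ⟨a, ha, b, hb, e, h0, h1⟩ := hsplit v hv
    refine ⟨a, ⟨ha, fun l t hl => ?_⟩, b, ⟨hb, fun l t hl => ?_⟩, e⟩
    · obtain ⟨k, hk, hkt⟩ := hL₀ t
      rw [hfac a ha l k (Or.inl (hl.trans hkt.symm)), h0 k hk]
    · obtain ⟨k, hk, hkt⟩ := hL₁ t
      rw [hfac b hb l k (Or.inl (hl.trans hkt.symm)), h1 k hk]
  -- the quotient by the fixed points
  let W₀ : Subgroup ↥V₀ := (F₀ ⊓ F₁).subgroupOf V₀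
  let W := ↥V₀ ⧸ W₀
  let res : L → (↥V₀ →* ↥V₀) := fun l =>
    MonoidHom.mk' (fun v => ⟨α l v, hV₀ l v v.2⟩) fun a b => Subtype.ext (map_mul (α l) (a : V) b)
  have hres : ∀ l, W₀ ≤ W₀.comap (res l) := by
    intro l v hv
    have e : α l (v : V) = v := hall _ hv.1 hv.2 l
    show α l (v : V) ∈ F₀ ⊓ F₁
    rw [e]
    exact hv
  let T : L → (W →* W) := fun l => QuotientGroup.map W₀ W₀ (res l) (hres l)
  have hT : ∀ (a b : L) (w : W), T a (T b w) = T (a * b) w := by
    intro a b w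
    induction w using QuotientGroup.induction_on with
    | H v =>
      show QuotientGroup.mk' W₀ (res a (res b v)) = QuotientGroup.mk' W₀ (res (a * b) v)
      congr 1
      exact Subtype.ext (hαmul a b v).symm
  have hTeq : ∀ l l', (π l = π l' ∨ π l = -π l') → ∀ w, T l w = T l' w := by
    intro l l' he w
    induction w using QuotientGroup.induction_on with
    | H v =>
      show QuotientGroup.mk' W₀ (res l v) = QuotientGroup.mk' W₀ (res l' v)
      congr 1
      exact Subtype.ext (hfac v v.2 l l' he)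
  have hT1 : ∀ w, T 1 w = w := by
    intro w
    induction w using QuotientGroup.induction_on with
    | H v =>
      show QuotientGroup.mk' W₀ (res 1 v) = QuotientGroup.mk' W₀ v
      congr 1
      exact Subtype.ext (by show α 1 (v : V) = v; rw [map_one]; rfl)
  have hTn : ∀ w, T lu (T lv (T lu w)) = T ln w := fun w => by rw [hT, hT]
  let mkW := QuotientGroup.mk' W₀
  have hw : ∀ w : W, ∀ v : ↥V₀, mkW v = w → ∀ l, T l w = mkW (res l v) := by rintro _ v rfl l; rfl
  have key : ∀ w : W, w = 1 := by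
    refine eq_one_of_swap (p := p) (fun w hw2 => ?_) hodd (T lu) (T lv) ((F₀.subgroupOf V₀).map mkW)
      ((F₁.subgroupOf V₀).map mkW) (fun w => ?_) ?_ ?_ ?_ ?_ ?_ ?_ ?_ ?_
    · have hWp : IsPGroup p W := (hV.to_subgroup V₀).to_quotient W₀
      obtain ⟨k, hk⟩ := hWp w
      have h2 : orderOf w ∣ 2 := orderOf_dvd_of_pow_eq_one (by rw [pow_two]; exact hw2)
      have hpk := orderOf_dvd_of_pow_eq_one hk
      exact orderOf_eq_one_iff.1 (Nat.eq_one_of_dvd_coprimes
        ((Nat.coprime_primes Nat.prime_two (Fact.out : p.Prime)).2 (Ne.symm hp) |>.pow_right k) h2 hpk)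
    · obtain ⟨v, rfl⟩ := QuotientGroup.mk'_surjective W₀ w
      obtain ⟨a, ha, b, hb, e⟩ := hsum v v.2
      refine ⟨_, mem_map_of_mem mkW (show (⟨a, ha.1⟩ : ↥V₀) ∈ F₀.subgroupOf V₀ from ha), _,
        mem_map_of_mem mkW (show (⟨b, hb.1⟩ : ↥V₀) ∈ F₁.subgroupOf V₀ from hb), ?_⟩
      rw [← map_mul]
      exact congrArg _ (Subtype.ext e)
    · rw [eq_bot_iff]
      rintro w ⟨⟨a, ha, rfl⟩, ⟨b, hb, e⟩⟩
      have h1 := QuotientGroup.eq.1 e
      have ha1 : (a : V) ∈ F₁ := by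
        have h2 : ((b⁻¹ * a : ↥V₀) : V) ∈ F₀ ⊓ F₁ := h1
        have := mul_mem (show (b : V) ∈ F₁ from hb) h2.2
        rwa [Subgroup.coe_mul, Subgroup.coe_inv, mul_inv_cancel_left] at this
      exact mem_bot.2 ((QuotientGroup.eq_one_iff a).2 ⟨ha, ha1⟩)
    · rintro _ ⟨a, ha, rfl⟩
      refine congrArg mkW (Subtype.ext ?_)
      exact (show (a : V) ∈ F₀ from ha).2 lu 1 hlu
    · intro a b e
      have := congrArg (T lu⁻¹) e
      rwa [hT, hT, inv_mul_cancel, hT1, hT1] at this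
    · rintro _ ⟨b, hb, rfl⟩
      refine congrArg mkW (Subtype.ext ?_)
      exact (show (b : V) ∈ F₁ from hb).2 lv (-1) hlv
    · intro w
      have : ∀ k : ℕ, (T lv)^[k] w = T (lv ^ k) w := by
        intro k
        induction k with
        | zero => rw [pow_zero, hT1]; rfl
        | succ k ih => rw [Function.iterate_succ_apply', ih, hT, ← pow_succ']
      rw [this, hTeq (lv ^ p) 1 (Or.inl ?_), hT1]
      rw [map_pow, map_one, hlv]
      apply Subtype.ext
      have hl : ∀ k : ℕ, (loSL (-1 : F)) ^ k = loSL ((k : F) * -1) := by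
        intro k
        induction k with
        | zero => simp [RankOne.loSL_zero]
        | succ k ih => rw [pow_succ, ih, RankOne.loSL_mul]; congr 1; push_cast; ring
      rw [hl, CharP.cast_eq_zero, zero_mul, RankOne.loSL_zero]
    · rintro _ ⟨a, ha, rfl⟩
      rw [hTn]
      exact ⟨res ln a, hswap₀ _ ha, rfl⟩
    · rintro _ ⟨a, ha, rfl⟩
      rw [hTn]
      exact ⟨res ln a, hswap₁ _ ha, rfl⟩
    · intro w
      rw [hTn, hTn, hT, hTeq (ln * ln) 1 (Or.inr ?_), hT1]
      rw [map_mul, hln, nSL_sq, map_one]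
  have hxW := (QuotientGroup.eq_one_iff (N := W₀) (⟨x, hx⟩ : ↥V₀)).1 (key _)
  exact hall x hxW.1 hxW.2 l

end Cfsg.Agent.CharFocal.Duo
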