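import Cfsg.Agent.Lib.CharFocal.Duo.Core
import Cfsg.Agent.Lib.Coprime.PQ
import Cfsg.Agent.Lib.PushingUp.Distance
import Cfsg.Agent.Lib.PushUp.Graph

/-!
Descent through a product of two abelian subgroups fixed by opposite unipotent groups.

* `Frame` : the data
* `Frame.layer` : one abelian section
* `Frame.fixed` : a point of `W` fixed by a complement in the preimage of `±1` is fixed by its normaliser
* `up_induction` : from `W = C_T(E)` to `T`
-/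

set_option autoImplicit false
set_option maxHeartbeats 1000000

namespace Cfsg.Agent.CharFocal.Duo

open Subgroup
open scoped MatrixGroups commutatorElement
open RankOne (upSL loSL)

universe u

variable {H : Type u} [Group H]

/-- The data. -/
structure Frame (p : ℕ) (F : Type) [Field F] (L W Zw D₀ D₁ A₀ A₁ Kc : Subgroup H) (π : ↥L →* SL(2, F)) :
    Prop where
  ne_two : p ≠ 2
  le₀ : A₀ ≤ L
  le₁ : A₁ ≤ L
  gen : L ≤ A₀ ⊔ A₁
  up : ∀ t, ∃ l : ↥L, (l : H) ∈ A₀ ∧ π l = upSL t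
  lo : ∀ t, ∃ l : ↥L, (l : H) ∈ A₁ ∧ π l = loSL t
  normW : L ≤ normalizer (W : Set H)
  normZ : L ≤ normalizer (Zw : Set H)
  isP : IsPGroup p W
  centZ : W ≤ centralizer (Zw : Set H)
  Z_le₀ : Zw ≤ D₀
  Z_le₁ : Zw ≤ D₁
  le_W₀ : D₀ ≤ W
  le_W₁ : D₁ ≤ W
  inf_le : D₀ ⊓ D₁ ≤ Zw
  prod : ∀ x ∈ W, ∃ a ∈ D₀, ∃ b ∈ D₁, x = a * b
  comm₀ : ∀ a ∈ D₀, ∀ b ∈ D₀, a * b = b * a
  comm₁ : ∀ a ∈ D₁, ∀ b ∈ D₁, a * b = b * a
  fix₀ : ∀ a ∈ A₀, ∀ d ∈ D₀, a * d * a⁻¹ * d⁻¹ ∈ Zw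
  fix₁ : ∀ a ∈ A₁, ∀ d ∈ D₁, a * d * a⁻¹ * d⁻¹ ∈ Zw
  Kc_le : Kc ≤ L
  coprime : (Nat.card ↥Kc).Coprime p
  cover : ∀ k : ↥L, π k = 1 ∨ π k = -1 → ∃ t ∈ W, ∃ c ∈ Kc, (k : H) = t * c

theorem comm_mem_of_normal {R C : Subgroup H} (hCR : C ≤ R) (hab : ∀ a ∈ R, ∀ b ∈ R, a * b * a⁻¹ * b⁻¹ ∈ C) :
    (C.subgroupOf R).Normal :=
  ⟨fun c hc r => by
    show ((r : H) * c * (r : H)⁻¹) ∈ C
    have := mul_mem (hab r r.2 c (hCR hc)) (show (c : H) ∈ C from hc)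
    rwa [inv_mul_cancel_right] at this⟩

namespace Frame

variable [Finite H] {p : ℕ} [Fact p.Prime] {F : Type} [Field F] [Finite F] [CharP F p]
  {L W Zw D₀ D₁ A₀ A₁ Kc : Subgroup H} {π : ↥L →* SL(2, F)}

/-- One abelian section. -/
theorem layer (h : Frame p F L W Zw D₀ D₁ A₀ A₁ Kc π) (R C : Subgroup H) (hCR : C ≤ R)
    (hRp : IsPGroup p R) (hLR : L ≤ normalizer (R : Set H)) (hLC : L ≤ normalizer (C : Set H))
    (hab : ∀ a ∈ R, ∀ b ∈ R, a * b * a⁻¹ * b⁻¹ ∈ C)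
    (htriv : ∀ t ∈ W, t ∈ L → ∀ r ∈ R, t * r * t⁻¹ * r⁻¹ ∈ C)
    (hgen : ∀ x ∈ R, ∃ a ∈ R, ∃ b ∈ R, x = a * b ∧ (∀ l ∈ A₀, l * a * l⁻¹ * a⁻¹ ∈ C) ∧
      ∀ l ∈ A₁, l * b * l⁻¹ * b⁻¹ ∈ C)
    {x : H} (hx : x ∈ R) (hfix : ∀ k ∈ Kc, k * x * k⁻¹ * x⁻¹ ∈ C) {l : H} (hl : l ∈ L) :
    l * x * l⁻¹ * x⁻¹ ∈ C := by
  set C' := C.subgroupOf R
  haveI hC' : C'.Normal := comm_mem_of_normal hCR hab
  letI : CommGroup (↥R ⧸ C') :=
    { (inferInstance : Group (↥R ⧸ C')) with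
      mul_comm := fun a b => by
        induction a using QuotientGroup.induction_on with
        | H a =>
          induction b using QuotientGroup.induction_on with
          | H b =>
            rw [← QuotientGroup.mk_mul, ← QuotientGroup.mk_mul, QuotientGroup.eq]
            show ((a * b)⁻¹ * (b * a) : ↥R).1 ∈ C
            have := hab _ (R.inv_mem b.2) _ (R.inv_mem a.2)
            simpa [mul_assoc] using this }
  let φ : ↥L →* MulAut ↥R := (Subgroup.normalizerMonoidHom R).comp (Subgroup.inclusion hLR)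
  have hφv : ∀ (l : ↥L) (r : ↥R), ((φ l r : ↥R) : H) = (l : H) * r * (l : H)⁻¹ := fun l r => rfl
  have hφC : ∀ l : ↥L, C'.map (φ l).toMonoidHom = C' := by
    intro l
    ext r
    constructor
    · rintro ⟨c, hc, rfl⟩
      show ((φ l c : ↥R) : H) ∈ C
      rw [hφv]
      exact (mem_normalizer_iff.1 (hLC l.2) _).1 hc
    · intro hr
      refine ⟨φ l⁻¹ r, ?_, ?_⟩
      · show ((φ l⁻¹ r : ↥R) : H) ∈ C
        rw [hφv]
        exact (mem_normalizer_iff.1 (hLC (inv_mem l.2)) _).1 hr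
      · show φ l (φ l⁻¹ r) = r
        rw [← MulAut.mul_apply, ← map_mul, mul_inv_cancel, map_one]; rfl
  let α : ↥L →* MulAut (↥R ⧸ C') :=
    MonoidHom.mk' (fun l => QuotientGroup.congr C' C' (φ l) (hφC l)) fun a b => MulEquiv.ext fun q => by
      induction q using QuotientGroup.induction_on with
      | H r =>
        show QuotientGroup.mk' C' (φ (a * b) r) = QuotientGroup.mk' C' (φ a (φ b r))
        rw [map_mul]; rfl
  have hα : ∀ (l : ↥L) (r : ↥R), α l (r : ↥R ⧸ C') = (φ l r : ↥R ⧸ C') := fun l r => rfl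
  have hαC : ∀ (l : ↥L) (r : ↥R), α l (r : ↥R ⧸ C') = (r : ↥R ⧸ C') ↔
      (l : H) * r * (l : H)⁻¹ * (r : H)⁻¹ ∈ C := by
    intro l r
    rw [hα, QuotientGroup.eq_iff_div_mem, div_eq_mul_inv]
    rfl
  have hZ : ∀ k : ↥L, k ∈ sgnKer π → ∃ c : ↥L, (c : H) ∈ Kc ∧ α k = α c := by
    intro k hk
    obtain ⟨t, ht, c, hc, e⟩ := h.cover k hk
    have htL : t ∈ L := by
      have : t = k * c⁻¹ := by rw [e, mul_inv_cancel_right]
      rw [this]
      exact mul_mem k.2 (inv_mem (h.Kc_le hc))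
    refine ⟨⟨c, h.Kc_le hc⟩, hc, ?_⟩
    have e' : k = ⟨t, htL⟩ * ⟨c, h.Kc_le hc⟩ := Subtype.ext e
    have h1 : α ⟨t, htL⟩ = 1 := MulEquiv.ext fun q => by
      induction q using QuotientGroup.induction_on with
      | H r => exact (hαC _ r).2 (htriv t ht htL r r.2)
    rw [e', map_mul, h1, one_mul]
  have hle : (sgnKer π).map α ≤ ((Kc.subgroupOf L)).map α := by
    rintro _ ⟨k, hk, rfl⟩
    obtain ⟨c, hc, e⟩ := hZ k hk
    exact ⟨c, hc, e.symm⟩
  have hcop : (Nat.card ↥((sgnKer π).map α)).Coprime p := by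
    refine h.coprime.coprime_dvd_left ?_
    exact ((card_dvd_of_le hle).trans (card_map_dvd _ α)).trans
      (dvd_of_eq (Nat.card_congr (subgroupOfEquivOfLe h.Kc_le).toEquiv))
  have hp' : IsPGroup p (↥R ⧸ C') := hRp.to_quotient C'
  have := fixed_of_split (V := ↥R ⧸ C') h.ne_two hp' α π hcop (A₀.subgroupOf L) (A₁.subgroupOf L)
    (fun t => (h.up t).imp fun l hl => ⟨hl.1, hl.2⟩) (fun t => (h.lo t).imp fun l hl => ⟨hl.1, hl.2⟩)
    (fun q => by
      induction q using QuotientGroup.induction_on with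
      | H r =>
        obtain ⟨a, ha, b, hb, e, h0, h1⟩ := hgen r r.2
        refine ⟨((⟨a, ha⟩ : ↥R) : ↥R ⧸ C'), ((⟨b, hb⟩ : ↥R) : ↥R ⧸ C'), ?_, fun l hl => ?_, fun l hl => ?_⟩
        · rw [← QuotientGroup.mk_mul]
          exact congrArg _ (Subtype.ext e)
        · exact (hαC l ⟨a, ha⟩).2 (h0 l hl)
        · exact (hαC l ⟨b, hb⟩).2 (h1 l hl))
    (x := ((⟨x, hx⟩ : ↥R) : ↥R ⧸ C')) (fun k hk => by
      obtain ⟨c, hc, e⟩ := hZ k hk
      rw [e]
      exact (hαC c ⟨x, hx⟩).2 (hfix c hc)) ⟨l, hl⟩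
  exact (hαC _ _).1 this

omit [Finite H] [Fact p.Prime] [Finite F] [CharP F p] in
theorem fixedBy_comm {R : Subgroup H} {l x : H} (hl : l ∈ normalizer (Kc : Set H))
    (hfix : ∀ k ∈ Kc, k * x = x * k) (hlR : l ∈ normalizer (R : Set H)) (hx : x ∈ R) :
    (l * x * l⁻¹ ∈ R) ∧ ∀ k ∈ Kc, k * (l * x * l⁻¹) = (l * x * l⁻¹) * k := by
  refine ⟨(mem_normalizer_iff.1 hlR x).1 hx, fun k hk => ?_⟩
  have h1 : l⁻¹ * k * l ∈ Kc := by
    have := (mem_normalizer_iff.1 (inv_mem hl) k).1 hk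
    rwa [inv_inv] at this
  calc k * (l * x * l⁻¹) = l * (l⁻¹ * k * l * x) * l⁻¹ := by group
    _ = l * (x * (l⁻¹ * k * l)) * l⁻¹ := by rw [hfix _ h1]
    _ = _ := by group

omit [Finite F] [CharP F p] in
/-- If both abelian factors cover `R` modulo `[R, W] Zw` then `R ≤ Zw`. -/
theorem le_of_cover (h : Frame p F L W Zw D₀ D₁ A₀ A₁ Kc π) {R : Subgroup H} (hRW : R ≤ W)
    (hWR : W ≤ normalizer (R : Set H)) (hR₀ : R ≤ (D₀ ⊓ R) ⊔ (⁅R, W⁆ ⊔ Zw))
    (hR₁ : R ≤ (D₁ ⊓ R) ⊔ (⁅R, W⁆ ⊔ Zw)) : R ≤ Zw := by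
  have hWN : W ≤ normalizer (Zw : Set H) := h.centZ.trans (centralizer_le_normalizer _)
  have hXR : ⁅R, W⁆ ≤ R := le_normalizer_iff_commutator_le_left.1 hWR
  set X := ⁅R, W⁆ with hXdef
  have hXW : X ≤ W := hXR.trans hRW
  have hWX : ⁅X, W⁆ ≤ X := le_normalizer_iff_commutator_le_left.1 (normalizer_commutator_ge_right R W)
  set J := X ⊔ Zw with hJdef
  have hWJ : W ≤ normalizer (J : Set H) := le_normalizer_iff_commutator_le_left.2 (by
    refine commutator_le.2 fun a ha w hw => ?_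
    obtain ⟨y, hy, z, hz, rfl⟩ := PushUp.exists_mul_of_mem_sup_normalizer (hXW.trans hWN) ha
    have hzw : z * w = w * z := h.centZ hw z hz
    rw [commutatorElement_def, show y * z * w * (y * z)⁻¹ * w⁻¹ = y * (z * w) * z⁻¹ * y⁻¹ * w⁻¹ by group, hzw,
      show y * (w * z) * z⁻¹ * y⁻¹ * w⁻¹ = ⁅y, w⁆ by rw [commutatorElement_def]; group]
    exact mem_sup_left (hWX (commutator_mem_commutator hy hw)))
  have hRJ : R ≤ normalizer (J : Set H) := hRW.trans hWJ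
  set J2 := ⁅X, W⁆ ⊔ Zw
  have hWJ2 : W ≤ normalizer (J2 : Set H) := by
    have hJ2J : J2 ≤ J := sup_le (hWX.trans le_sup_left) le_sup_right
    refine le_normalizer_iff_commutator_le_left.2 (commutator_le.2 fun a ha w hw => ?_)
    obtain ⟨y, hy, z, hz, rfl⟩ := PushUp.exists_mul_of_mem_sup_normalizer (hXW.trans hWN) (hJ2J ha)
    have hzw : z * w = w * z := h.centZ hw z hz
    rw [commutatorElement_def, show y * z * w * (y * z)⁻¹ * w⁻¹ = y * (z * w) * z⁻¹ * y⁻¹ * w⁻¹ by group, hzw,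
      show y * (w * z) * z⁻¹ * y⁻¹ * w⁻¹ = ⁅y, w⁆ by rw [commutatorElement_def]; group]
    exact mem_sup_left (commutator_mem_commutator hy hw)
  have hJ2 : ∀ j ∈ J, ∀ w ∈ W, j * w * j⁻¹ * w⁻¹ ∈ J2 := by
    intro j hj w hw
    obtain ⟨x', hx', z, hz, rfl⟩ := PushUp.exists_mul_of_mem_sup_normalizer
      (hXR.trans (hRW.trans hWN)) hj
    have hzw : z * w = w * z := h.centZ hw z hz
    rw [show x' * z * w * (x' * z)⁻¹ * w⁻¹ = x' * (z * w) * z⁻¹ * x'⁻¹ * w⁻¹ by group, hzw,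
      show x' * (w * z) * z⁻¹ * x'⁻¹ * w⁻¹ = x' * w * x'⁻¹ * w⁻¹ by group]
    exact mem_sup_left (commutator_mem_commutator hx' hw)
  have hpart : ∀ (D : Subgroup H), D ≤ W → (∀ a ∈ D, ∀ b ∈ D, a * b = b * a) → R ≤ (D ⊓ R) ⊔ J →
      ∀ r ∈ R, ∀ w ∈ D, r * w * r⁻¹ * w⁻¹ ∈ J2 := by
    intro D hDW hDc hR' r hr w hw
    obtain ⟨d, hd, j, hj, rfl⟩ := PushUp.exists_mul_of_mem_sup_normalizer (inf_le_right.trans hRJ) (hR' hr)
    have e1 : d * j * w * (d * j)⁻¹ * w⁻¹ = d * (j * w * j⁻¹ * w⁻¹) * d⁻¹ * (d * w * d⁻¹ * w⁻¹) := by group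
    have e2 : d * w * d⁻¹ * w⁻¹ = 1 := by rw [hDc d hd.1 w hw]; group
    rw [e1, e2, mul_one]
    exact (mem_normalizer_iff.1 (hWJ2 (hRW hd.2)) _).1 (hJ2 j hj w (hDW hw))
  have hXJ2 : X ≤ J2 := commutator_le.2 fun r hr w hw => by
    obtain ⟨a, ha, b, hb, rfl⟩ := h.prod w hw
    rw [commutatorElement_def,
      show r * (a * b) * r⁻¹ * (a * b)⁻¹ = (r * a * r⁻¹ * a⁻¹) * (a * (r * b * r⁻¹ * b⁻¹) * a⁻¹) by group]
    exact mul_mem (hpart D₀ h.le_W₀ h.comm₀ hR₀ r hr a ha)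
      ((mem_normalizer_iff.1 (hWJ2 (h.le_W₀ ha)) _).1 (hpart D₁ h.le_W₁ h.comm₁ hR₁ r hr b hb))
  have hZW : Zw ≤ W := h.Z_le₀.trans h.le_W₀
  have hbot : ⁅X, W⁆ = ⊥ := by
    refine Coprime.eq_bot_of_le_commutator (S := W) (hWX.trans hXW) h.isP.isNilpotent ?_
    refine commutator_le.2 fun a ha w hw => ?_
    obtain ⟨y, hy, z, hz, rfl⟩ := PushUp.exists_mul_of_mem_sup_normalizer
      ((hWX.trans hXW).trans hWN) (hXJ2 ha)
    have hzw : z * w = w * z := h.centZ hw z hz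
    rw [commutatorElement_def,
      show y * z * w * (y * z)⁻¹ * w⁻¹ = y * (z * w) * z⁻¹ * y⁻¹ * w⁻¹ by group, hzw,
      show y * (w * z) * z⁻¹ * y⁻¹ * w⁻¹ = ⁅y, w⁆ by rw [commutatorElement_def]; group]
    exact commutator_mem_commutator hy hw
  have hXZ : X ≤ Zw := hXJ2.trans (sup_le (hbot.le.trans bot_le) le_rfl)
  have hJZ : J ≤ Zw := sup_le hXZ le_rfl
  intro r hr
  exact h.inf_le ⟨sup_le inf_le_left (hJZ.trans h.Z_le₀) (hR₀ hr),
    sup_le inf_le_left (hJZ.trans h.Z_le₁) (hR₁ hr)⟩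

/-- A point of `W` fixed by `Kc` is fixed by the `p'`-elements of `L` normalising `Kc`. -/
theorem fixed (h : Frame p F L W Zw D₀ D₁ A₀ A₁ Kc π)
    (hbase : ∀ x ∈ Zw, (∀ k ∈ Kc, k * x = x * k) → ∀ l ∈ L, l ∈ normalizer (Kc : Set H) →
      (orderOf l).Coprime p → l * x = x * l) :
    ∀ x ∈ W, (∀ k ∈ Kc, k * x = x * k) → ∀ l ∈ L, l ∈ normalizer (Kc : Set H) →
      (orderOf l).Coprime p → l * x = x * l := by
  suffices key : ∀ (n : ℕ) (R : Subgroup H), Nat.card ↥R = n → Zw ≤ R → R ≤ W → L ≤ normalizer (R : Set H) →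
      W ≤ normalizer (R : Set H) → (∀ x ∈ R, ∃ a ∈ D₀ ⊓ R, ∃ b ∈ D₁ ⊓ R, x = a * b) →
      ∀ x ∈ R, (∀ k ∈ Kc, k * x = x * k) → ∀ l ∈ L, l ∈ normalizer (Kc : Set H) →
        (orderOf l).Coprime p → l * x = x * l from
    key _ W rfl (h.Z_le₀.trans h.le_W₀) le_rfl h.normW le_normalizer fun x hx => by
      obtain ⟨a, ha, b, hb, e⟩ := h.prod x hx
      exact ⟨a, ⟨ha, h.le_W₀ ha⟩, b, ⟨hb, h.le_W₁ hb⟩, e⟩
  intro n
  induction n using Nat.strong_induction_on with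
  | _ n ih =>
    intro R hn hZR hRW hLR hWR hprod x hx hfix l hl hlK hlco
    by_cases hRZ : R ≤ Zw
    · exact hbase x (hRZ hx) hfix l hl hlK hlco
    have hWN : W ≤ normalizer (Zw : Set H) := h.centZ.trans (centralizer_le_normalizer _)
    set X := ⁅R, W⁆
    set J := X ⊔ Zw with hJdef
    have hXR : X ≤ R := le_normalizer_iff_commutator_le_left.1 hWR
    have hJR : J ≤ R := sup_le hXR hZR
    have hLX : L ≤ normalizer (X : Set H) := fun g hg => by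
      rw [mem_normalizer_iff_map_conj_eq]
      show (⁅R, W⁆).map _ = ⁅R, W⁆
      rw [map_commutator, mem_normalizer_iff_map_conj_eq.1 (hLR hg), mem_normalizer_iff_map_conj_eq.1 (h.normW hg)]
    have hLJ : L ≤ normalizer (J : Set H) := fun g hg => by
      rw [mem_normalizer_iff_map_conj_eq, hJdef, Subgroup.map_sup, mem_normalizer_iff_map_conj_eq.1 (hLX hg),
        mem_normalizer_iff_map_conj_eq.1 (h.normZ hg)]
    have hWJ : W ≤ normalizer (J : Set H) := by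
      refine le_trans ?_ (le_normalizer_iff_commutator_le_left.2 ?_ : W ≤ _)
      · exact le_rfl
      · exact ((commutator_mono hJR le_rfl).trans le_sup_left)
    set P₀ := (D₀ ⊓ R) ⊔ J
    set P₁ := (D₁ ⊓ R) ⊔ J
    set C := P₀ ⊓ P₁
    have hP₀R : P₀ ≤ R := sup_le inf_le_right hJR
    have hCR : C ≤ R := inf_le_left.trans hP₀R
    have hJC : J ≤ C := le_inf le_sup_right le_sup_right
    have hWC : W ≤ normalizer (C : Set H) := le_normalizer_iff_commutator_le_left.2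
      ((commutator_mono hCR le_rfl).trans (le_sup_left.trans hJC))
    -- points of `C` are fixed by `L` modulo `J`
    have hRJ : R ≤ normalizer (J : Set H) := hRW.trans hWJ
    have hfixJ : ∀ (A D : Subgroup H), A ≤ L → (∀ a ∈ A, ∀ d ∈ D, a * d * a⁻¹ * d⁻¹ ∈ Zw) →
        ∀ c ∈ (D ⊓ R) ⊔ J, ∀ a ∈ A, a * c * a⁻¹ * c⁻¹ ∈ J := by
      intro A D hA hfixA c hc a ha
      obtain ⟨d, hd, j, hj, rfl⟩ := PushUp.exists_mul_of_mem_sup_normalizer (inf_le_right.trans hRJ) hc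
      have h1 : a * j * a⁻¹ * j⁻¹ ∈ J := mul_mem ((mem_normalizer_iff.1 (hLJ (hA ha)) j).1 hj) (inv_mem hj)
      have e : a * (d * j) * a⁻¹ * (d * j)⁻¹ = (a * d * a⁻¹ * d⁻¹) * (d * (a * j * a⁻¹ * j⁻¹) * d⁻¹) := by group
      rw [e]
      exact mul_mem (mem_sup_right (hfixA a ha d hd.1)) ((mem_normalizer_iff.1 (hRJ hd.2) _).1 h1)
    have hLC0 : ∀ c ∈ C, ∀ g ∈ L, g * c * g⁻¹ * c⁻¹ ∈ J := by
      intro c hc g hg
      suffices hs : ∀ y ∈ A₀ ⊔ A₁, y * c * y⁻¹ * c⁻¹ ∈ J ∧ y ∈ normalizer (J : Set H) from (hs g (h.gen hg)).1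
      intro y hy
      rw [sup_eq_closure] at hy
      induction hy using closure_induction with
      | mem y hy =>
        rcases hy with hy | hy
        · exact ⟨hfixJ A₀ D₀ h.le₀ h.fix₀ c hc.1 y hy, hLJ (h.le₀ hy)⟩
        · exact ⟨hfixJ A₁ D₁ h.le₁ h.fix₁ c hc.2 y hy, hLJ (h.le₁ hy)⟩
      | one => exact ⟨by simp, one_mem _⟩
      | mul a b _ _ ha hb =>
        refine ⟨?_, mul_mem ha.2 hb.2⟩
        rw [show a * b * c * (a * b)⁻¹ * c⁻¹ = (a * (b * c * b⁻¹ * c⁻¹) * a⁻¹) * (a * c * a⁻¹ * c⁻¹) by group]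
        exact mul_mem ((mem_normalizer_iff.1 ha.2 _).1 hb.1) ha.1
      | inv a _ ha =>
        refine ⟨?_, inv_mem ha.2⟩
        rw [show a⁻¹ * c * a⁻¹⁻¹ * c⁻¹ = a⁻¹ * (a * c * a⁻¹ * c⁻¹)⁻¹ * a⁻¹⁻¹ by group]
        exact (mem_normalizer_iff.1 (inv_mem ha.2) _).1 (inv_mem ha.1)
    have hLC : L ≤ normalizer (C : Set H) := fun g hg => by
      rw [mem_normalizer_iff_map_conj_eq]
      refine eq_of_le_of_card_ge ?_ (card_map_of_injective (MulAut.conj g).injective).ge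
      rintro _ ⟨c, hc, rfl⟩
      show g * c * g⁻¹ ∈ C
      rw [show g * c * g⁻¹ = (g * c * g⁻¹ * c⁻¹) * c by group]
      exact mul_mem (hJC (hLC0 c hc g hg)) hc
    -- `C` is proper
    have hCne : C ≠ R := fun e => hRZ (h.le_of_cover hRW hWR (e.ge.trans inf_le_left) (e.ge.trans inf_le_right))
    -- the section `R / C`
    have hab : ∀ a ∈ R, ∀ b ∈ R, a * b * a⁻¹ * b⁻¹ ∈ C := fun a ha b hb =>
      hJC (mem_sup_left (commutator_mem_commutator ha (hRW hb)))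
    have htriv : ∀ t ∈ W, t ∈ L → ∀ r ∈ R, t * r * t⁻¹ * r⁻¹ ∈ C := by
      intro t ht _ r hr
      have := inv_mem (hJC (mem_sup_left (commutator_mem_commutator hr ht)) : ⁅r, t⁆ ∈ C)
      simpa [commutatorElement_def, mul_assoc] using this
    have hgen : ∀ y ∈ R, ∃ a ∈ R, ∃ b ∈ R, y = a * b ∧ (∀ g ∈ A₀, g * a * g⁻¹ * a⁻¹ ∈ C) ∧
        ∀ g ∈ A₁, g * b * g⁻¹ * b⁻¹ ∈ C := by
      intro y hy
      obtain ⟨a, ha, b, hb, e⟩ := hprod y hy
      exact ⟨a, ha.2, b, hb.2, e, fun g hg => hJC (mem_sup_right (h.fix₀ g hg a ha.1)),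
        fun g hg => hJC (mem_sup_right (h.fix₁ g hg b hb.1))⟩
    have hc : l * x * l⁻¹ * x⁻¹ ∈ C := h.layer R C hCR (h.isP.to_le hRW) hLR hLC hab htriv hgen hx
      (fun k hk => by rw [hfix k hk]; simp) hl
    have hcfix : ∀ k ∈ Kc, k * (l * x * l⁻¹ * x⁻¹) = (l * x * l⁻¹ * x⁻¹) * k := fun k hk => by
      have h1 : Commute k (l * x * l⁻¹) := (fixedBy_comm hlK hfix (hLR hl) hx).2 k hk
      have h2 : Commute k x := hfix k hk
      exact (h1.mul_right h2.inv_right).eq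
    have hCprod : ∀ y ∈ C, ∃ a ∈ D₀ ⊓ C, ∃ b ∈ D₁ ⊓ C, y = a * b := by
      intro y hy
      obtain ⟨a, ha, b, hb, e⟩ := hprod y (hCR hy)
      have hbP₁ : b ∈ P₁ := mem_sup_left hb
      have haP₁ : a ∈ P₁ := by
        have : a = y * b⁻¹ := by rw [e, mul_inv_cancel_right]
        rw [this]
        exact mul_mem hy.2 (inv_mem hbP₁)
      have haC : a ∈ C := ⟨mem_sup_left ha, haP₁⟩
      refine ⟨a, ⟨ha.1, haC⟩, b, ⟨hb.1, ?_⟩, e⟩
      have : b = a⁻¹ * y := by rw [e, inv_mul_cancel_left]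
      rw [this]
      exact C.mul_mem (C.inv_mem haC) hy
    have hlt : Nat.card ↥C < n := by
      rw [← hn]
      exact lt_of_le_of_ne (card_le_of_le hCR) fun e => hCne (eq_of_le_of_card_ge hCR e.ge)
    have hlc := ih _ hlt C rfl (le_sup_right.trans hJC) (hCR.trans hRW) hLC hWC hCprod _ hc hcfix l hl hlK hlco
    set c := l * x * l⁻¹ * x⁻¹ with hcdef
    obtain ⟨k, hk⟩ := h.isP ⟨c, hRW (hCR hc)⟩
    have hc1 : x⁻¹ * c * x = 1 := by
      refine PushingUp.coprime_stab (p := p) (c := l) (x := x) (y := x⁻¹ * c * x) hlco (pow_orderOf_eq_one l) ?_ ?_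
        (a := k) ?_
      · have h4 : l * x * l⁻¹ = c * x := by rw [hcdef, inv_mul_cancel_right]
        calc l * (x⁻¹ * c * x) * l⁻¹ = (l * x * l⁻¹)⁻¹ * (l * c * l⁻¹) * (l * x * l⁻¹) := by group
          _ = (c * x)⁻¹ * c * (c * x) := by rw [h4, hlc, mul_inv_cancel_right]
          _ = _ := by group
      · rw [hcdef]; group
      · rw [show x⁻¹ * c * x = x⁻¹ * c * x⁻¹⁻¹ by rw [inv_inv], conj_pow]
        have : c ^ p ^ k = 1 := by simpa using congrArg Subtype.val hk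
        rw [this]; simp
    have hc2 : c = 1 := by
      have := congrArg (fun z => x * z * x⁻¹) hc1
      simpa [mul_assoc] using this
    rw [hcdef, mul_inv_eq_one, mul_inv_eq_iff_eq_mul] at hc2
    exact hc2

end Frame

/-- From `W = C_T(E)` to the whole of `T`. -/
theorem up_induction [Finite H] {p : ℕ} [Fact p.Prime] {T W E Kc L : Subgroup H} (hT : IsPGroup p T)
    (hEW : E ≤ W) (hW : W = T ⊓ centralizer (E : Set H)) (hLT : L ≤ normalizer (T : Set H))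
    (hLE : L ≤ centralizer (E : Set H)) (hKL : Kc ≤ L)
    (hfix : ∀ x ∈ W, (∀ k ∈ Kc, k * x = x * k) → ∀ l ∈ L, l ∈ normalizer (Kc : Set H) →
      (orderOf l).Coprime p → l * x = x * l) :
    ∀ x ∈ T, (∀ k ∈ Kc, k * x = x * k) → ∀ l ∈ L, l ∈ normalizer (Kc : Set H) →
      (orderOf l).Coprime p → l * x = x * l := by
  classical
  set Good : Subgroup H → Prop := fun X => W ≤ X ∧ X ≤ T ∧ ∀ x ∈ X, (∀ k ∈ Kc, k * x = x * k) →
    ∀ l ∈ L, l ∈ normalizer (Kc : Set H) → (orderOf l).Coprime p → l * x = x * l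
  obtain ⟨X, ⟨hWX, hXT, hX⟩, hmax⟩ := Set.exists_max_image {X : Subgroup H | Good X} (fun X => Nat.card ↥X)
    (Set.toFinite _) ⟨W, le_rfl, hW ▸ inf_le_left, hfix⟩
  suffices hXe : X = T by subst hXe; exact hX
  by_contra hne
  set N := T ⊓ normalizer (X : Set H)
  haveI : Group.IsNilpotent ↥T := hT.isNilpotent
  have hlt : X < N := by
    refine lt_of_le_of_ne (le_inf hXT le_normalizer) fun e => ?_
    have h1 : X.subgroupOf T < ⊤ := lt_top_iff_ne_top.2 fun e' => hne (le_antisymm hXT (subgroupOf_eq_top.1 e'))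
    have h2 := normalizerCondition_of_isNilpotent _ h1
    obtain ⟨y, hy, hyX⟩ := SetLike.exists_of_lt h2
    refine hyX (show (y : H) ∈ X from e.ge ⟨y.2, ?_⟩)
    show (y : H) ∈ normalizer (X : Set H)
    rw [mem_normalizer_iff_map_conj_eq]
    refine eq_of_le_of_card_ge ?_ (card_map_of_injective (MulAut.conj _).injective).ge
    rintro _ ⟨z, hz, rfl⟩
    exact (mem_normalizer_iff.1 hy ⟨z, hXT hz⟩).1 hz
  refine hlt.ne (eq_of_le_of_card_ge hlt.le (hmax N ⟨hWX.trans hlt.le, inf_le_left, ?_⟩))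
  intro x hx hfx l hl hlK hlco
  set x' := l * x * l⁻¹
  have hfx' := (Frame.fixedBy_comm hlK hfx (hLT hl) hx.1)
  set w := x'⁻¹ * x
  have hwW : w ∈ W := by
    rw [hW]
    refine ⟨T.mul_mem (T.inv_mem hfx'.1) hx.1, mem_centralizer_iff.2 fun e he => ?_⟩
    have heX : e ∈ X := hWX (hEW he)
    have hle : l * e = e * l := (hLE hl e he).symm
    have hcX : e * x * e⁻¹ * x⁻¹ ∈ X := by
      rw [show e * x * e⁻¹ * x⁻¹ = e * (x * e⁻¹ * x⁻¹) by group]
      exact mul_mem heX ((mem_normalizer_iff.1 hx.2 _).1 (inv_mem heX))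
    have hcf : ∀ k ∈ Kc, k * (e * x * e⁻¹ * x⁻¹) = (e * x * e⁻¹ * x⁻¹) * k := fun k hk => by
      have h1 : Commute k x := hfx k hk
      have h2 : Commute k e := (hLE (hKL hk) e he).symm
      exact ((((h2.mul_right h1).mul_right h2.inv_right)).mul_right h1.inv_right).eq
    have h3 := hX _ hcX hcf l hl hlK hlco
    have h4 : e * x * e⁻¹ * x⁻¹ = e * x' * e⁻¹ * x'⁻¹ := by
      calc e * x * e⁻¹ * x⁻¹ = l * (e * x * e⁻¹ * x⁻¹) * l⁻¹ := by rw [h3, mul_inv_cancel_right]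
        _ = (l * e * l⁻¹) * x' * (l * e * l⁻¹)⁻¹ * x'⁻¹ := by simp only [x']; group
        _ = _ := by rw [hle, mul_inv_cancel_right]
    have h5 : x * e⁻¹ * x⁻¹ = x' * e⁻¹ * x'⁻¹ := by
      have := congrArg (fun z => e⁻¹ * z) h4
      simpa [mul_assoc] using this
    have h6 : x * e * x⁻¹ = x' * e * x'⁻¹ := by
      have := congrArg (fun z : H => z⁻¹) h5
      simpa [mul_assoc] using this
    calc e * w = x'⁻¹ * (x' * e * x'⁻¹) * x := by simp only [w]; group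
      _ = x'⁻¹ * (x * e * x⁻¹) * x := by rw [h6]
      _ = w * e := by simp only [w]; group
  have hwf : ∀ k ∈ Kc, k * w = w * k := fun k hk =>
    ((show Commute k x' from hfx'.2 k hk).inv_right.mul_right (show Commute k x from hfx k hk)).eq
  have hlw := hfix w hwW hwf l hl hlK hlco
  obtain ⟨a, ha⟩ := hT ⟨w, (hW ▸ inf_le_left : W ≤ T) hwW⟩
  have hw1 : w⁻¹ = 1 := by
    refine PushingUp.coprime_stab (p := p) (c := l) (x := x) (y := w⁻¹) hlco (pow_orderOf_eq_one l) ?_ ?_ (a := a) ?_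
    · rw [show l * w⁻¹ * l⁻¹ = (l * w * l⁻¹)⁻¹ by group, hlw, mul_inv_cancel_right]
    · simp only [w, x']; group
    · rw [inv_pow, show w ^ p ^ a = 1 by simpa using congrArg Subtype.val ha, inv_one]
  rw [inv_eq_one, show w = x'⁻¹ * x from rfl, inv_mul_eq_one] at hw1
  calc l * x = x' * l := by simp only [x']; group
    _ = x * l := by rw [hw1]

end Cfsg.Agent.CharFocal.Duo
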