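import Cfsg.Agent.Lib.FunctorControl.Transfer
import Cfsg.Agent.Lib.PushUp.Assemble
import Cfsg.Agent.Lib.PushUp.RankOne
import Cfsg.Agent.Lib.Baumann.BlockMap
import Cfsg.Agent.Lib.PushingUp.Transport
import Cfsg.Agent.Lib.FFMinimal.Local
import Cfsg.Agent.Lib.CharFocal.Setup

/-!
Two functors for the control of transfer, `p` odd.

* `cenFun`, `kFun` : the centre, and `S_Φ` of the Baumann subgroup or that subgroup itself
* `Base` : what is used of a minimal failure
* `Base.centralizer_le`, `Base.thompson_not_normal`, `Base.exists_offender`, `Base.quotient`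
-/

set_option autoImplicit false

namespace Cfsg.Agent.CharFocal.Duo

open Subgroup
open PLocal (maxIn elemAb)
open scoped commutatorElement

universe u

/-- The centre. -/
def cenFun : ∀ (Q : Type u) [Group Q], Subgroup Q := fun Q _ => center Q

/-- `S_Φ` of the Baumann subgroup, or that subgroup if `S_Φ` is trivial. -/
noncomputable def kFun (p : ℕ) : ∀ (Q : Type u) [Group Q], Subgroup Q := fun Q _ => by
  classical
  exact if Cfsg.frattiniOfMinimalCLJoin p ↥(Cfsg.baumannSubgroupOf p (⊤ : Subgroup Q)) = ⊥ then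
    Cfsg.baumannSubgroupOf p (⊤ : Subgroup Q)
  else (Cfsg.frattiniOfMinimalCLJoin p ↥(Cfsg.baumannSubgroupOf p (⊤ : Subgroup Q))).map
    (Cfsg.baumannSubgroupOf p (⊤ : Subgroup Q)).subtype

theorem center_le_baumann {p : ℕ} (Q : Type u) [Group Q] :
    center Q ≤ Cfsg.baumannSubgroupOf p (⊤ : Subgroup Q) := fun _ hz =>
  ⟨mem_top _, fun x _ => mem_center_iff.1 hz x⟩

theorem map_baumann {p : ℕ} {P Q : Type u} [Group P] [Group Q] {f : P →* Q} (hf : Function.Injective f)
    (T : Subgroup P) : (Cfsg.baumannSubgroupOf p T).map f = Cfsg.baumannSubgroupOf p (T.map f) := by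
  rw [Cfsg.baumannSubgroupOf, PushUp.map_inf_centralizer hf, PLocal.map_omegaOne _ hf.injOn,
    Cfsg.centerThompsonOf, PushUp.map_inf_centralizer hf, PLocal.map_thompsonSubgroupOf _ hf.injOn]
  rfl

theorem cenFun_isCharPFunctor {p : ℕ} [Fact p.Prime] : Cfsg.IsCharPFunctor.{u} p cenFun := by
  refine ⟨fun Q _ _ hQ _ => ?_, fun Q R _ _ _ _ φ => ?_⟩
  · haveI := hQ.center_nontrivial
    exact (nontrivial_iff_ne_bot (center Q)).1 inferInstance
  · refine le_antisymm ?_ fun x hx => ⟨φ.symm x, mem_center_iff.2 fun y => φ.injective ?_, φ.apply_symm_apply x⟩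
    · rintro _ ⟨x, hx, rfl⟩
      refine mem_center_iff.2 fun y => ?_
      obtain ⟨y, rfl⟩ := φ.surjective y
      show φ y * φ x = φ x * φ y
      rw [← map_mul, ← map_mul, mem_center_iff.1 hx y]
    · rw [map_mul, map_mul, φ.apply_symm_apply]
      exact mem_center_iff.1 hx _

theorem kFun_isCharPFunctor {p : ℕ} [Fact p.Prime] : Cfsg.IsCharPFunctor.{u} p (kFun p) := by
  classical
  refine ⟨fun Q _ _ hQ _ => ?_, fun Q R _ _ _ hQ φ => ?_⟩
  · haveI := hQ.center_nontrivial
    unfold kFun
    split_ifs with h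
    · exact fun e => ((nontrivial_iff_ne_bot (center Q)).1 inferInstance) (eq_bot_iff.2 ((center_le_baumann Q).trans e.le))
    · rw [Ne, Subgroup.map_eq_bot_iff_of_injective _ (subtype_injective _)]
      exact h
  · haveI : Finite R := Finite.of_equiv Q φ.toEquiv
    unfold kFun
    have hB : (Cfsg.baumannSubgroupOf p (⊤ : Subgroup Q)).map φ.toMonoidHom =
        Cfsg.baumannSubgroupOf p (⊤ : Subgroup R) := by
      rw [map_baumann φ.injective, map_top_of_surjective _ φ.surjective]
    generalize Cfsg.baumannSubgroupOf p (⊤ : Subgroup R) = B' at hB ⊢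
    subst hB
    generalize hB : Cfsg.baumannSubgroupOf p (⊤ : Subgroup Q) = B
    let e : ↥B ≃* ↥(B.map φ.toMonoidHom) := φ.subgroupMap B
    have hT : (Cfsg.frattiniOfMinimalCLJoin p ↥B).map e.toMonoidHom =
        Cfsg.frattiniOfMinimalCLJoin p ↥(B.map φ.toMonoidHom) := PushingUp.map_frattiniJoin e (hQ.to_subgroup B)
    have hiff : Cfsg.frattiniOfMinimalCLJoin p ↥(B.map φ.toMonoidHom) = ⊥ ↔
        Cfsg.frattiniOfMinimalCLJoin p ↥B = ⊥ := by
      rw [← hT]
      exact Subgroup.map_eq_bot_iff_of_injective _ e.injective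
    by_cases h : Cfsg.frattiniOfMinimalCLJoin p ↥B = ⊥
    · rw [if_pos h, if_pos (hiff.2 h)]
    · rw [if_neg h, if_neg (mt hiff.1 h), ← hT, Subgroup.map_map, Subgroup.map_map]
      rfl

/-- The two functors. -/
def family (p : ℕ) : Set (∀ (Q : Type u) [Group Q], Subgroup Q) := {cenFun, kFun p}

theorem family_isCharPFunctor {p : ℕ} [Fact p.Prime] : ∀ W ∈ family.{u} p, Cfsg.IsCharPFunctor.{u} p W := by
  rintro W (rfl | rfl)
  exacts [cenFun_isCharPFunctor, kFun_isCharPFunctor]

variable {G : Type u} [Group G]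

theorem induced_cenFun (S : Subgroup G) : Cfsg.inducedFunctor cenFun S = S ⊓ centralizer (S : Set G) := by
  ext x
  constructor
  · rintro ⟨⟨x, hx⟩, hxc, rfl⟩
    exact ⟨hx, fun t ht => congrArg Subtype.val (mem_center_iff.1 hxc ⟨t, ht⟩)⟩
  · rintro ⟨hx, hxc⟩
    exact ⟨⟨x, hx⟩, mem_center_iff.2 fun t => Subtype.ext (hxc t t.2), rfl⟩

theorem baumann_top_map {p : ℕ} (S : Subgroup G) :
    (Cfsg.baumannSubgroupOf p (⊤ : Subgroup ↥S)).map S.subtype = Cfsg.baumannSubgroupOf p S := by
  rw [map_baumann S.subtype_injective, ← MonoidHom.range_eq_map, S.range_subtype]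

variable [Finite G] {p : ℕ} [Fact p.Prime]

theorem induced_kFun {S : Subgroup G} (hS : IsPGroup p S) :
    (Cfsg.frattiniOfMinimalCLJoin p ↥(Cfsg.baumannSubgroupOf p S) = ⊥ ∧
        Cfsg.inducedFunctor (kFun p) S = Cfsg.baumannSubgroupOf p S) ∨
      (Cfsg.frattiniOfMinimalCLJoin p ↥(Cfsg.baumannSubgroupOf p S) ≠ ⊥ ∧
        Cfsg.inducedFunctor (kFun p) S = (Cfsg.frattiniOfMinimalCLJoin p ↥(Cfsg.baumannSubgroupOf p S)).map
          (Cfsg.baumannSubgroupOf p S).subtype) := by
  classical
  unfold Cfsg.inducedFunctor kFun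
  have hB := baumann_top_map (p := p) S
  generalize Cfsg.baumannSubgroupOf p S = B' at hB ⊢
  subst hB
  generalize hB : Cfsg.baumannSubgroupOf p (⊤ : Subgroup ↥S) = B
  let e := B.equivMapOfInjective S.subtype S.subtype_injective
  have hT := PushingUp.map_frattiniJoin e (hS.to_subgroup B)
  have hiff : Cfsg.frattiniOfMinimalCLJoin p ↥(B.map S.subtype) = ⊥ ↔
      Cfsg.frattiniOfMinimalCLJoin p ↥B = ⊥ := by
    rw [← hT]
    exact Subgroup.map_eq_bot_iff_of_injective _ e.injective
  by_cases h : Cfsg.frattiniOfMinimalCLJoin p ↥B = ⊥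
  · rw [if_pos h]; exact Or.inl ⟨hiff.2 h, rfl⟩
  · rw [if_neg h]
    refine Or.inr ⟨mt hiff.1 h, ?_⟩
    rw [← hT, Subgroup.map_map, Subgroup.map_map]
    rfl

/-- `K` is normal if the Baumann subgroup is. -/
theorem induced_kFun_normal {S : Subgroup G} (hS : IsPGroup p S) [(Cfsg.baumannSubgroupOf p S).Normal] :
    (Cfsg.inducedFunctor (kFun p) S).Normal := by
  rcases induced_kFun hS with ⟨-, e⟩ | ⟨-, e⟩
  · rw [e]; infer_instance
  · rw [e]
    haveI : (Cfsg.frattiniOfMinimalCLJoin p ↥(Cfsg.baumannSubgroupOf p S)).Characteristic :=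
      PushingUp.characteristic_of_map fun φ =>
        PushingUp.map_frattiniJoin_le φ (hS.to_le (inf_le_left : Cfsg.baumannSubgroupOf p S ≤ S))
    infer_instance

/-- The properties of a minimal failure that are used. -/
structure Base (p : ℕ) (S : Sylow p G) (M F : Subgroup G) : Prop where
  coatom : IsCoatom M
  sylow_le : (S : Subgroup G) ≤ M
  uniq : ∀ X : Subgroup G, (S : Subgroup G) ≤ X → X ≠ ⊤ → X ≤ M
  ne_top : (S : Subgroup G) ≠ ⊤
  charP : centralizer (Cfsg.pCore p G : Set G) ≤ Cfsg.pCore p G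
  noZ : ¬ ((S : Subgroup G) ⊓ centralizer ((S : Subgroup G) : Set G)).Normal
  noK : ¬ (Cfsg.inducedFunctor (kFun p) (S : Subgroup G)).Normal
  coprime : ∀ H : Subgroup G, H.Normal → ¬ p ∣ Nat.card H → H = ⊥
  fixF : M = normalizer (F : Set G)
  le_core : F ≤ Cfsg.pCore p G
  comm : ⁅Cfsg.pCore p G, M⁆ ≤ F

theorem base_of_transferMin {S : Sylow p G} (h : FunctorControl.TransferMin p (family.{u} p) S) :
    ∃ M F : Subgroup G, Base p S M F := by
  have hne : (family.{u} p).Nonempty := ⟨_, Or.inl rfl⟩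
  have hno : ∀ W ∈ family.{u} p, ¬ (Cfsg.inducedFunctor W (S : Subgroup G)).Normal := fun W hW hn => by
    refine h.fail ((FunctorControl.controlsTransfer_iff h.char S).2 ?_)
    refine le_trans ?_ (le_iSup₂ (f := fun W (_ : W ∈ family.{u} p) => (S : Subgroup G) ⊓
      ⁅Subgroup.normalizer ((Cfsg.inducedFunctor W (S : Subgroup G) : Subgroup G) : Set G),
        Subgroup.normalizer ((Cfsg.inducedFunctor W (S : Subgroup G) : Subgroup G) : Set G)⁆) W hW)
    rw [Subgroup.normalizer_eq_top_iff.2 hn]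
  refine ⟨_, _, { coatom := ⟨h.M_ne_top hne, fun X hX => ?_⟩, sylow_le := h.sylow_le_M hne,
                  uniq := fun X h1 h2 => h.le_M h1 h2, ne_top := h.sylow_ne_top hne, charP := h.charP,
                  noZ := induced_cenFun (S : Subgroup G) ▸ hno cenFun (Or.inl rfl),
                  noK := hno (kFun p) (Or.inr rfl),
                  coprime := fun H hH hd => by haveI := hH; exact h.eq_bot_of_coprime H hd,
                  fixF := rfl, le_core := inf_le_right, comm := ?_ }⟩
  · by_contra hX'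
    exact hX.not_ge (h.le_M ((h.sylow_le_M hne).trans hX.le) hX')
  · obtain ⟨h1, h2⟩ := h.commutator_le hne
    exact (h1.trans h2).trans (by rw [inf_comm])

namespace Base

variable {S : Sylow p G} {M F : Subgroup G} (h : Base p S M F)
include h

theorem ne_bot : (S : Subgroup G) ≠ ⊥ := by
  intro e
  refine h.noZ ?_
  rw [e, bot_inf_eq]
  infer_instance

theorem isPMinimal : Cfsg.IsPMinimal p G :=
  PMinimal.isPMinimal_of_sylow S (fun hn => h.noZ (by
      haveI := hn
      rw [← induced_cenFun]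
      exact (inferInstance : ((center ↥(S : Subgroup G)).map (S : Subgroup G).subtype).Normal)))
    M h.coatom h.sylow_le h.uniq

theorem center_not_centralized {X : Subgroup G} [X.Normal]
    (hX : (S : Subgroup G) ⊓ centralizer ((S : Subgroup G) : Set G) ≤ X) :
    centralizer (X : Set G) ≤ M := by
  refine (PMinimal.le_or_le S h.coatom h.sylow_le h.isPMinimal (centralizer (X : Set G))).resolve_left fun hle => ?_
  refine h.noZ ⟨fun z hz g => ?_⟩
  have hg : g ∈ centralizer (((S : Subgroup G) ⊓ centralizer ((S : Subgroup G) : Set G) : Subgroup G) : Set G) := by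
    have htop : Cfsg.pResidual p G ⊔ (S : Subgroup G) ≤
        centralizer (((S : Subgroup G) ⊓ centralizer ((S : Subgroup G) : Set G) : Subgroup G) : Set G) :=
      sup_le (hle.trans (Subgroup.centralizer_le hX)) fun t ht => fun y hy => (hy.2 t ht).symm
    rw [PReduced.pResidual_sup_sylow S] at htop
    exact htop (mem_top g)
  rw [← hg z hz, mul_inv_cancel_right]
  exact hz

theorem center_le_center_pCore : (S : Subgroup G) ⊓ centralizer ((S : Subgroup G) : Set G) ≤
    Cfsg.pCore p G ⊓ centralizer (Cfsg.pCore p G : Set G) := fun z hz => by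
  have h1 : z ∈ centralizer (Cfsg.pCore p G : Set G) := fun q hq => hz.2 q (Cores.pCore_le_sylow S hq)
  exact ⟨h.charP h1, h1⟩

/-- The centraliser of `V` is below the maximal subgroup. -/
theorem centralizer_le : centralizer (Cfsg.omegaOneCenter p (Cfsg.pCore p G) : Set G) ≤ M := by
  haveI := Cores.pCore_normal p G
  set X := Cfsg.pCore p G ⊓ centralizer (Cfsg.pCore p G : Set G) with hXdef
  haveI : (Cfsg.omegaOneCenter p (Cfsg.pCore p G)).Normal := PReduced.omegaOne_normal (inferInstance : X.Normal) p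
  rcases PMinimal.le_or_le S h.coatom h.sylow_le h.isPMinimal
      (centralizer (Cfsg.omegaOneCenter p (Cfsg.pCore p G) : Set G)) with hle | hle
  · refine absurd ((closure_le _).2 ?_ |>.trans (h.center_not_centralized h.center_le_center_pCore))
      (PMinimal.not_pResidual_le S h.coatom h.sylow_le h.isPMinimal)
    intro x hx
    refine PushUp.centralizes_of_fix_powers (p := p) (V := X) (fun a ha b hb => (hb.2 a ha.1))
      ((Cores.isPGroup_pCore p G).to_le inf_le_left) hx fun a ha hap => ?_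
    rw [← (hle (subset_closure hx)) a (subset_closure ⟨ha, hap⟩), mul_inv_cancel_right]
  · exact hle

theorem thompson_not_normal : ¬ (Cfsg.thompsonSubgroupOf p (S : Subgroup G)).Normal := by
  intro hJn
  haveI := hJn
  haveI := Cores.pCore_normal p G
  set J := Cfsg.thompsonSubgroupOf p (S : Subgroup G) with hJdef
  haveI : (Cfsg.omegaOne p (Cfsg.centerThompsonOf p (S : Subgroup G))).Normal :=
    PReduced.omegaOne_normal (inferInstance : (J ⊓ centralizer (J : Set G)).Normal) p
  set Z := Cfsg.omegaOne p (Cfsg.centerThompsonOf p (S : Subgroup G)) with hZdef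
  rcases PMinimal.le_or_le S h.coatom h.sylow_le h.isPMinimal (centralizer (Z : Set G)) with hle | hle
  · have hX : (S : Subgroup G) ⊓ centralizer ((S : Subgroup G) : Set G) ≤
        (Cfsg.pCore p G ⊓ centralizer (Cfsg.pCore p G : Set G)) ⊓ centralizer (J : Set G) :=
      le_inf h.center_le_center_pCore fun z hz j hj => hz.2 j (PLocal.thompsonSubgroupOf_le _ hj)
    refine absurd ((closure_le _).2 ?_ |>.trans (h.center_not_centralized hX))
      (PMinimal.not_pResidual_le S h.coatom h.sylow_le h.isPMinimal)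
    intro x hx
    refine PushUp.centralizes_of_fix_powers (p := p)
      (V := (Cfsg.pCore p G ⊓ centralizer (Cfsg.pCore p G : Set G)) ⊓ centralizer (J : Set G))
      (fun a ha b hb => (hb.1.2 a ha.1.1))
      ((Cores.isPGroup_pCore p G).to_le (inf_le_left.trans inf_le_left)) hx fun a ha hap => ?_
    have haZ : a ∈ Z := by
      obtain ⟨A, hA⟩ := PLocal.exists_maxIn (Q := elemAb p) PLocal.elemAb_bot (S : Subgroup G)
      have hAJ : A ≤ J := by rw [hJdef, PLocal.thompsonSubgroupOf_eq]; exact le_sSup hA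
      exact PReduced.mem_omegaOne_center.2 ⟨hAJ (PLocal.mem_of_centralizes hA
        (Cores.pCore_le_sylow S ha.1.1) hap (Subgroup.centralizer_le hAJ ha.2)), ha.2, hap⟩
    rw [← (hle (subset_closure hx)) a haZ, mul_inv_cancel_right]
  · have hBQ : Cfsg.baumannSubgroupOf p (S : Subgroup G) = Cfsg.pCore p G ⊓ centralizer (Z : Set G) :=
      le_antisymm (le_inf ((inf_comm _ _).trans_le
          (PMinimal.sylow_inf_normal_le_pCore S h.coatom h.sylow_le h.isPMinimal _ hle)) inf_le_right)
        (inf_le_inf_right _ (Cores.pCore_le_sylow S))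
    haveI : (Cfsg.baumannSubgroupOf p (S : Subgroup G)).Normal := by rw [hBQ]; infer_instance
    exact h.noK (induced_kFun_normal S.2)

/-- Some elementary abelian subgroup of largest order in `S` moves `V`. -/
theorem exists_offender : ∃ A ∈ maxIn (elemAb p) (S : Subgroup G),
    ¬ A ≤ centralizer (Cfsg.omegaOneCenter p (Cfsg.pCore p G) : Set G) := by
  by_contra hcon
  push Not at hcon
  haveI := Cores.pCore_normal p G
  haveI : (Cfsg.omegaOneCenter p (Cfsg.pCore p G)).Normal :=
    PReduced.omegaOne_normal (inferInstance : (Cfsg.pCore p G ⊓ centralizer (Cfsg.pCore p G : Set G)).Normal) p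
  have hQS := Cores.pCore_le_sylow S
  have hCS := PMinimal.sylow_inf_normal_le_pCore S h.coatom h.sylow_le h.isPMinimal _ h.centralizer_le
  have hAQ : ∀ A ∈ maxIn (elemAb p) (S : Subgroup G), A ≤ Cfsg.pCore p G := fun A hA x hx =>
    hCS ⟨hcon A hA hx, hA.1 hx⟩
  obtain ⟨A₁, hA₁⟩ := PLocal.exists_maxIn (Q := elemAb p) PLocal.elemAb_bot (S : Subgroup G)
  have e : Cfsg.thompsonSubgroupOf p (S : Subgroup G) = Cfsg.thompsonSubgroupOf p (Cfsg.pCore p G) := by
    rw [PLocal.thompsonSubgroupOf_eq, PLocal.thompsonSubgroupOf_eq]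
    exact le_antisymm (sSup_le_sSup fun A hA => PLocal.maxIn_of_mem_le hA (hAQ A hA) hQS)
      (sSup_le_sSup (PLocal.maxIn_subset hA₁ (hAQ A₁ hA₁) hQS))
  refine h.thompson_not_normal (normalizer_eq_top_iff.1 ?_)
  rw [eq_top_iff, e, ← normalizer_eq_top_iff.2 (inferInstance : (Cfsg.pCore p G).Normal)]
  exact PLocal.normalizer_le_normalizer_thompsonSubgroupOf _

/-- The quotient is `p`-minimal without normal `p`-subgroup. -/
theorem quotient [(Cfsg.omegaOneCenter p (Cfsg.pCore p G)).Normal] :
    Cfsg.IsPMinimal p (G ⧸ centralizer (Cfsg.omegaOneCenter p (Cfsg.pCore p G) : Set G)) ∧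
      Cfsg.pCore p (G ⧸ centralizer (Cfsg.omegaOneCenter p (Cfsg.pCore p G) : Set G)) = ⊥ := by
  have hmin := h.isPMinimal
  have hS := FFMinimal.setupData h.charP S
  have hCM := h.centralizer_le
  obtain ⟨A, hA, hAC⟩ := h.exists_offender
  generalize Cfsg.omegaOneCenter p (Cfsg.pCore p G) = V at *
  set C := centralizer (V : Set G) with hC
  set mk := QuotientGroup.mk' C with hmk
  have hsurj := QuotientGroup.mk'_surjective C
  set Tb : Sylow p (G ⧸ C) := S.mapSurjective hsurj
  have hker : mk.ker = C := QuotientGroup.ker_mk' C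
  have hMker : mk.ker ≤ M := hker.trans_le hCM
  have hMb : IsCoatom (M.map mk) := by
    refine ⟨fun e => h.coatom.1 ?_, fun X hX => ?_⟩
    · rw [← comap_map_eq_self hMker, e, comap_top]
    · have h1 : M < X.comap mk := by
        rw [← comap_map_eq_self hMker]
        exact (comap_lt_comap_of_surjective hsurj).2 hX
      rw [← map_comap_eq_self_of_surjective hsurj X, h.coatom.2 _ h1, map_top_of_surjective _ hsurj]
  have hu : ∀ X : Subgroup (G ⧸ C), (Tb : Subgroup (G ⧸ C)) ≤ X → X ≠ ⊤ → X ≤ M.map mk := fun X hX hXne => by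
    rw [← map_comap_eq_self_of_surjective hsurj X]
    refine map_mono (h.uniq _ ((le_comap_map _ _).trans (comap_mono hX)) fun e => hXne ?_)
    rw [← map_comap_eq_self_of_surjective hsurj X, e, map_top_of_surjective _ hsurj]
  have hcore : Cfsg.pCore p (G ⧸ C) = ⊥ := by
    rw [eq_bot_iff]
    intro q hq
    obtain ⟨n, rfl⟩ := hsurj q
    set N := (Cfsg.pCore p (G ⧸ C)).comap mk
    haveI : (Cfsg.pCore p (G ⧸ C)).Normal := Cores.pCore_normal p _
    haveI : N.Normal := inferInstance
    have hNle : N ≤ C ⊔ (S : Subgroup G) := by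
      refine (comap_mono (Cores.pCore_le_sylow Tb)).trans ?_
      show ((S : Subgroup G).map mk).comap mk ≤ _
      rw [comap_map_eq, hker, sup_comm]
    have hcap := PMinimal.sylow_inf_normal_le_pCore S h.coatom h.sylow_le hmin N
      (hNle.trans (sup_le hCM h.sylow_le))
    obtain ⟨a, ha, b, hb, e⟩ := Subgroup.mem_sup_of_normal_left.1 (hNle (show n ∈ N from hq))
    subst e
    have haN : a ∈ N := by
      show mk a ∈ Cfsg.pCore p (G ⧸ C)
      rw [show mk a = 1 from (QuotientGroup.eq_one_iff a).2 ha]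
      exact one_mem _
    have hbN : b ∈ N := (N.mul_mem_cancel_left haN).1 hq
    exact mem_bot.2 ((QuotientGroup.eq_one_iff (a * b)).2 (mul_mem ha (hS.core (hcap ⟨hbN, hb⟩))))
  refine ⟨PMinimal.isPMinimal_of_sylow Tb (fun hn => hAC fun a ha => ?_) _ hMb (map_mono h.sylow_le) hu, hcore⟩
  have h2 : mk a ∈ Cfsg.pCore p (G ⧸ C) := Cores.le_pCore hn Tb.2 (mem_map_of_mem mk (hA.1 ha))
  rw [hcore, mem_bot] at h2
  exact (QuotientGroup.eq_one_iff _).1 h2

end Base

end Cfsg.Agent.CharFocal.Duo
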