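import Cfsg.Agent.Lib.CharFocal.Duo.Descent
import Cfsg.Agent.Lib.PushingUp.Family
import Cfsg.Agent.Lib.Coprime.Invariant
import Cfsg.Agent.Lib.CharFocal.Coord

/-!
In a realisation in which the largest abelian subgroups are large, an element of `R` fixed modulo `N` by the
preimage of `±1` is fixed modulo `N` by the `p`-residual.

* `residual_comm`
-/

set_option autoImplicit false
set_option maxHeartbeats 1000000

namespace Cfsg.Agent.CharFocal.Duo

open Subgroup Cfsg.Agent.CentrallyLarge Cfsg.Agent.PushingUp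
open scoped MatrixGroups commutatorElement Pointwise
open RankOne (upSL loSL)
open PushingUp.Real (T Y Zg cj mem_T mem_cj)

universe u

variable {P : Type u} [Group P] [Finite P] {G : Type u} [Group G] [Finite G] {p : ℕ} [Fact p.Prime]

/-- The `p`-residual moves nothing that the preimage of `±1` does not. -/
theorem residual_comm {τ : P →* G} (h : PushingUp.Side p τ)
    (ha : ∀ A ∈ Cfsg.maxAbelianSubgroups P, Cfsg.IsCentralizerLarge A) (hp2 : p ≠ 2)
    {F : Type} [Field F] [Finite F] [CharP F p] (π : G →* SL(2, F)) (hπ : Function.Surjective π)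
    (hup : ∀ b, ∃ t, π (τ b) = upSL t) (honto : ∀ t, ∃ b, π (τ b) = upSL t)
    (hker : ∀ b, π (τ b) = 1 → b ∈ T p τ)
    (R N : Subgroup G) [R.Normal] [N.Normal] (hR : R ≤ Cfsg.pCore p G)
    (hk : ∀ k : G, π k = 1 ∨ π k = -1 → ∀ w ∈ R, ⁅w, k⁆ ∈ N) :
    ∀ x : G, (orderOf x).Coprime p → ∀ w ∈ R, ⁅x, w⁆ ∈ N := by
  classical
  set Q := Cfsg.pCore p G with hQdef
  haveI hQn : Q.Normal := Cores.pCore_normal p G
  have hQr : Q ≤ τ.range := h.core_le
  have hQp : IsPGroup p Q := Cores.isPGroup_pCore p G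
  have h2F : (2 : F) ≠ 0 := by
    intro e
    have h5 : ((2 : ℕ) : F) = 0 := by exact_mod_cast e
    rw [CharP.cast_eq_zero_iff F p] at h5
    exact hp2 ((Nat.prime_dvd_prime_iff_eq Fact.out Nat.prime_two).1 h5)
  -- `π` kills `Q`
  have hπQ : ∀ x ∈ Q, π x = 1 := by
    intro x hx
    obtain ⟨b, rfl⟩ := hQr hx
    obtain ⟨s, hs⟩ := hup b
    obtain ⟨g, hg⟩ := hπ (nSL F)
    obtain ⟨b', hb'⟩ := hQr (hQn.conj_mem _ hx g)
    obtain ⟨s', hs'⟩ := hup b'
    rw [hb', map_mul, map_mul, map_inv, hg, hs, nSL_up, mul_inv_cancel_right] at hs'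
    have : -s = 0 := by
      by_contra hne
      exact RankOne.upSL_ne_loSL (-s) (fun e0 => by
        rw [e0, RankOne.upSL_zero] at hs'
        exact hne (RankOne.loSL_eq_one_iff.1 hs')) hs'.symm
    rw [hs, neg_eq_zero.1 this, RankOne.upSL_zero]
  -- an abelian subgroup outside `T`
  obtain ⟨Ap, hA, hAT⟩ : ∃ A ∈ Cfsg.maxAbelianSubgroups P, ¬ A ≤ T p τ := by
    by_contra hno
    push Not at hno
    exact h.T_ne_top (top_le_iff.1 (h.jtop.ge.trans (sSup_le hno)))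
  obtain ⟨u, huA, huT⟩ := SetLike.not_le_iff_exists.1 hAT
  have hAC : centralizer (Ap : Set P) = Ap := maxAbelian_centralizer hA
  have hAL := ha Ap hA
  have hTL := h.large_T
  have hYL := h.large_Y
  have hCY := h.centralizer_Y
  have hYT := h.centralizer_T_le
  have hAtop : Ap ⊔ T p τ = ⊤ := by
    have hl := centralizerLarge_sup hAL hTL
    rw [← centralizer_centralizer_eq hl]
    refine top_le_iff.1 fun x _ z hz => ?_
    have hz' : z ∈ centralizer (Ap : Set P) ∧ z ∈ Y p τ := by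
      rw [centralizer_sup] at hz
      exact hz
    have hzc : z ∈ center P := h.mem_center_of_commute huT hz'.2 (hz'.1 u huA)
    exact (mem_center_iff.1 hzc x).symm
  -- the generating element
  obtain ⟨g, hgπ⟩ := hπ (nSL F)
  have hgen : PushingUp.Gen p τ.range g := by
    obtain ⟨M, hM, hSM⟩ := PushingUp.exists_coatom h.sit
    refine PushingUp.gen_of_not_mem h.sit hM hSM fun hgM => hM.1 ?_
    have hupM : ∀ t, upSL t ∈ M.map π := fun t => by
      obtain ⟨b, hb⟩ := honto t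
      exact ⟨τ b, hSM ⟨b, rfl⟩, hb⟩
    have hMtop : M.map π = ⊤ := eq_top_of_upper hupM ⟨g, hgM, hgπ⟩ (by
      simp [nSL, Matrix.SpecialLinearGroup.coe_mul, Matrix.mul_apply, Fin.sum_univ_two, RankOne.coe_upSL,
        RankOne.coe_loSL])
    have hkerM : π.ker ≤ M := by
      have hne : π.ker ⊔ τ.range ≠ ⊤ := by
        intro e
        obtain ⟨k, hk', r, hr, he⟩ := mem_sup_of_normal_left.1 (e.ge (mem_top g))
        obtain ⟨b, rfl⟩ := hr
        obtain ⟨t, ht⟩ := hup b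
        have h3 : π g = upSL t := by rw [← he, map_mul, MonoidHom.mem_ker.1 hk', one_mul, ht]
        rw [hgπ] at h3
        have := congrArg (fun m : SL(2, F) => (m : Matrix (Fin 2) (Fin 2) F) 1 0) h3
        simp [nSL, Matrix.SpecialLinearGroup.coe_mul, Matrix.mul_apply, Fin.sum_univ_two, RankOne.coe_upSL,
          RankOne.coe_loSL] at this
      obtain ⟨-, -, -, huniq, -⟩ := id h.sit
      exact le_sup_left.trans (PIrred.le_of_ne_top huniq ⟨hM, hSM⟩ le_sup_right hne)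
    rw [← comap_map_eq_self hkerM, hMtop, comap_top]
  -- the subgroups of `P`
  set Dp := Ap ⊓ T p τ
  set D₀p := Dp ⊔ Y p τ
  have hDpL := centralizerLarge_inf hAL hTL
  have hD₀L := centralizerLarge_sup hDpL hYL
  have hD₀T : D₀p ≤ T p τ := sup_le inf_le_right hYT
  have hD₀C : centralizer (D₀p : Set P) = D₀p := by
    have h1 : centralizer (Dp : Set P) = Ap ⊔ Y p τ := by
      rw [centralizer_inf_eq hAL hTL, hAC]
      rfl
    rw [centralizer_sup, hCY, h1]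
    refine le_antisymm ?_ (le_inf (sup_le (inf_le_left.trans le_sup_left) le_sup_right) hD₀T)
    rintro x ⟨hx, hxT⟩
    replace hx : x ∈ Ap ⊔ Y p τ := hx
    rw [← SetLike.mem_coe, coe_sup_eq_mul hAL hYL] at hx
    obtain ⟨a, haA, y, hy, rfl⟩ := hx
    refine mul_mem (mem_sup_left ⟨haA, ?_⟩) (mem_sup_right hy)
    simpa using (T p τ).mul_mem hxT ((T p τ).inv_mem (hYT hy))
  set D₁p := cj τ g D₀p
  obtain ⟨hD₁L, hD₁C⟩ := PushingUp.Real.large_cj h.inj hQr hCY le_sup_right hD₀T (h.cj_Y g) hD₀L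
  rw [hD₀C] at hD₁C
  have hYD₁ : Y p τ ≤ D₁p := (h.cj_Y g).ge.trans (PushingUp.Real.cj_mono le_sup_right)
  have hEL := centralizerLarge_inf hD₀L hD₁L
  have hEC : centralizer ((D₀p ⊓ D₁p : Subgroup P) : Set P) = D₀p ⊔ D₁p := by
    rw [centralizer_inf_eq hD₀L hD₁L, hD₀C, hD₁C]
  have hD₁T : D₁p ≤ T p τ := PushingUp.Real.cj_le h.inj hD₀T g
  -- the subgroups of `G`
  set A₀ := Ap.map τ
  set A₁ := A₀.map (MulAut.conj g).toMonoidHom
  set L := A₀ ⊔ A₁
  set E := Dp.map τ ⊓ (Dp.map τ).map (MulAut.conj g).toMonoidHom with hEdef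
  set W := (D₀p ⊔ D₁p).map τ
  set Zw := (D₀p ⊓ D₁p).map τ
  set Yg := (Y p τ).map τ with hYgdef
  haveI hYn : Yg.Normal := h.core.2.1
  have hτQ : ∀ {x : P}, x ∈ T p τ → τ x ∈ Q := fun hx => mem_T.1 hx
  have hcomm₀ : ∀ a ∈ A₀, ∀ b ∈ A₀, a * b = b * a := by
    rintro _ ⟨a, haA, rfl⟩ _ ⟨b, hb, rfl⟩
    rw [← map_mul, ← map_mul]
    exact congrArg τ (hAC.ge hb a haA)
  have hcomm₁ : ∀ a ∈ A₁, ∀ b ∈ A₁, a * b = b * a := by
    rintro _ ⟨a, haA, rfl⟩ _ ⟨b, hb, rfl⟩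
    rw [← map_mul, ← map_mul, hcomm₀ a haA b hb]
  have hLE : L ≤ centralizer (E : Set G) := by
    refine sup_le (fun a haA => mem_centralizer_iff.2 fun e he => ?_)
      (fun a haA => mem_centralizer_iff.2 fun e he => ?_)
    · exact hcomm₀ e (map_mono inf_le_left he.1) a haA
    · exact hcomm₁ e (map_mono (map_mono inf_le_left) he.2) a haA
  have hZD : center P ≤ Dp := le_inf
    (fun z hz => hAC.le (fun a _ => mem_center_iff.1 hz a)) (PushingUp.Side.center_le_Y.trans hYT)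
  have hEZw : E ≤ Zw := by
    rintro _ ⟨⟨d, hd, rfl⟩, e, ⟨d', hd', rfl⟩, he⟩
    refine mem_map_of_mem τ ⟨mem_sup_left hd, mem_cj.2 ⟨d', mem_sup_left hd', ?_⟩⟩
    exact he
  have hZwEY : ∀ x ∈ Zw, ∃ e ∈ E, ∃ y ∈ Yg, x = e * y := by
    rintro _ ⟨x, ⟨hx0, hx1⟩, rfl⟩
    replace hx0 : x ∈ D₀p := hx0
    rw [← SetLike.mem_coe, coe_sup_eq_mul hDpL hYL] at hx0
    obtain ⟨d, hd, y, hy, rfl⟩ := hx0
    obtain ⟨x', hx', he⟩ := mem_cj.1 hx1
    rw [← SetLike.mem_coe, coe_sup_eq_mul hDpL hYL] at hx'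
    obtain ⟨d', hd', y', hy', rfl⟩ := hx'
    have hw : (τ d)⁻¹ * (g * τ d' * g⁻¹) ∈ Yg := by
      have e1 : (τ d)⁻¹ * (g * τ d' * g⁻¹) = τ y * (g * τ y' * g⁻¹)⁻¹ := by
        rw [inv_mul_eq_iff_eq_mul, ← mul_assoc, ← map_mul, ← he, map_mul]
        group
      rw [e1]
      exact mul_mem (mem_map_of_mem τ hy) (inv_mem (hYn.conj_mem _ (mem_map_of_mem τ hy') g))
    obtain ⟨w, hwY, hwe⟩ := hw
    have hwY' : w ∈ center P ⊔ cj τ g (center P) := (h.center_sup_cj hgen).ge hwY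
    obtain ⟨a, haZ, b, hb, rfl⟩ := mem_sup_of_normal_left.1 hwY'
    obtain ⟨c, hc, hce⟩ := mem_cj.1 hb
    refine ⟨τ (d * a), ⟨mem_map_of_mem τ (mul_mem hd (hZD haZ)),
      τ (d' * c⁻¹), mem_map_of_mem τ (mul_mem hd' (inv_mem (hZD hc))), ?_⟩, τ (a⁻¹ * y),
      mem_map_of_mem τ (mul_mem (inv_mem (PushingUp.Side.center_le_Y haZ)) hy), by simp [map_mul, mul_assoc]⟩
    show g * τ (d' * c⁻¹) * g⁻¹ = τ (d * a)
    rw [map_mul, map_inv, show g * (τ d' * (τ c)⁻¹) * g⁻¹ = (g * τ d' * g⁻¹) * (g * τ c * g⁻¹)⁻¹ by group, hce,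
      show g * τ d' * g⁻¹ = τ d * τ (a * b) by rw [hwe]; group, map_mul, map_mul]
    group
  have hYZw : Yg ≤ Zw := map_mono (le_inf le_sup_right hYD₁)
  have hWQ : W ≤ Q := Subgroup.map_le_iff_le_comap.2 fun x hx => hτQ ((sup_le hD₀T hD₁T) hx)
  have hWc : W ≤ centralizer (Zw : Set G) := by
    rintro _ ⟨w, hw, rfl⟩
    refine mem_centralizer_iff.2 ?_
    rintro _ ⟨z, hz, rfl⟩
    rw [← map_mul, ← map_mul]
    exact congrArg τ (hEC.ge hw z hz)
  have hW : W = Q ⊓ centralizer (E : Set G) := by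
    refine le_antisymm (le_inf hWQ (hWc.trans (centralizer_le hEZw))) ?_
    rintro a ⟨haQ, haC⟩
    obtain ⟨x, rfl⟩ := hQr haQ
    refine mem_map_of_mem τ (hEC.le fun z hz => h.inj ?_)
    obtain ⟨e, he, _, ⟨y, hy, rfl⟩, hze⟩ := hZwEY _ (mem_map_of_mem τ hz)
    rw [map_mul, map_mul, hze, mul_assoc, ← mul_assoc (τ x), ← mem_centralizer_iff.1 haC e he, mul_assoc]
    congr 1
    rw [← map_mul, ← map_mul]
    exact congrArg τ ((hy x (mem_T.2 haQ)).symm)
  have hLQ : L ≤ normalizer (Q : Set G) := le_top.trans (normalizer_eq_top_iff.2 hQn).ge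
  have hLW : L ≤ normalizer (W : Set G) := fun l hl => by
    rw [mem_normalizer_iff_map_conj_eq]
    refine eq_of_le_of_card_ge ?_ (card_map_of_injective (MulAut.conj _).injective).ge
    rintro _ ⟨x, hx, rfl⟩
    rw [hW] at hx ⊢
    refine ⟨hQn.conj_mem x hx.1 l, mem_centralizer_iff.2 fun e he => ?_⟩
    show e * (l * x * l⁻¹) = l * x * l⁻¹ * e
    have h1 : Commute e l := mem_centralizer_iff.1 (hLE hl) e he
    have h2 : Commute e x := mem_centralizer_iff.1 hx.2 e he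
    exact ((h1.mul_right h2).mul_right h1.inv_right).eq
  have hLEn : L ≤ normalizer (E : Set G) := hLE.trans (fun x hx => by
    rw [mem_normalizer_iff_map_conj_eq]
    refine eq_of_le_of_card_ge ?_ (card_map_of_injective (MulAut.conj _).injective).ge
    rintro _ ⟨z, hz, rfl⟩
    show x * z * x⁻¹ ∈ E
    rwa [← mem_centralizer_iff.1 hx z hz, mul_inv_cancel_right])
  have hZwsup : Zw = E ⊔ Yg := by
    refine le_antisymm (fun x hx => ?_) (sup_le hEZw hYZw)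
    obtain ⟨e, he, y, hy, rfl⟩ := hZwEY x hx
    exact mul_mem (mem_sup_left he) (mem_sup_right hy)
  have hLZ : L ≤ normalizer (Zw : Set G) := fun l hl => by
    rw [mem_normalizer_iff_map_conj_eq, hZwsup, Subgroup.map_sup, mem_normalizer_iff_map_conj_eq.1 (hLEn hl),
      mem_normalizer_iff_map_conj_eq.1 ((normalizer_eq_top_iff.2 hYn).ge (mem_top l))]
  -- the hom on `L`
  set πL : ↥L →* SL(2, F) := π.comp L.subtype with hπL
  have hrange : ∀ b : P, ∃ a ∈ Ap, π (τ b) = π (τ a) := by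
    intro b
    obtain ⟨a, haA, t, ht, rfl⟩ := mem_sup_of_normal_right.1 (hAtop.ge (mem_top b) : b ∈ Ap ⊔ T p τ)
    exact ⟨a, haA, by rw [map_mul, map_mul, hπQ _ (hτQ ht), mul_one]⟩
  have hupL : ∀ t, ∃ l : ↥L, (l : G) ∈ A₀ ∧ πL l = upSL t := fun t => by
    obtain ⟨b, hb⟩ := honto t
    obtain ⟨a, haA, he⟩ := hrange b
    exact ⟨⟨τ a, mem_sup_left (mem_map_of_mem τ haA)⟩, mem_map_of_mem τ haA, he.symm.trans hb⟩
  have hloL : ∀ t, ∃ l : ↥L, (l : G) ∈ A₁ ∧ πL l = loSL t := fun t => by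
    obtain ⟨⟨l, hlL⟩, hl, he⟩ := hupL (-t)
    refine ⟨⟨g * l * g⁻¹, mem_sup_right ⟨l, hl, rfl⟩⟩, ⟨l, hl, rfl⟩, ?_⟩
    show π (g * l * g⁻¹) = loSL t
    rw [map_mul, map_mul, map_inv, show π l = upSL (-t) from he, hgπ, nSL_up, neg_neg, mul_inv_cancel_right]
  -- the complement in the preimage of `±1`
  set Lk : Subgroup G := (sgnKer πL).map L.subtype with hLkdef
  have hLkL : Lk ≤ L := map_subtype_le _
  have hLksgn : ∀ x ∈ Lk, π x = 1 ∨ π x = -1 := by rintro _ ⟨l, hl, rfl⟩; exact hl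
  set N₀ := Lk ⊓ Q
  have hN₀p : IsPGroup p N₀ := hQp.to_le inf_le_right
  obtain ⟨-, ⟨PS, hPS⟩, -⟩ := id h.sit
  have hpel : ∀ x ∈ Lk, (∃ a, x ^ p ^ a = 1) → x ∈ N₀ := by
    rintro x hx ⟨a, hxa⟩
    refine ⟨hx, ?_⟩
    have h1 : π x = 1 := by
      rcases hLksgn x hx with e | e
      · exact e
      · exfalso
        have h2 : (-1 : SL(2, F)) ^ p ^ a = 1 := by rw [← e, ← map_pow, hxa, map_one]
        rw [Odd.neg_one_pow (((Fact.out : p.Prime).odd_of_ne_two hp2).pow)] at h2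
        have := congrArg (fun m : SL(2, F) => (m : Matrix (Fin 2) (Fin 2) F) 0 0) h2
        simp at this
        exact h2F (by linear_combination -this)
    obtain ⟨S, hS⟩ := (IsPGroup.iff_orderOf.2 (fun y : ↥(zpowers x) => by
      obtain ⟨k, hk'⟩ := y.2
      have : (y : G) ^ p ^ a = 1 := by rw [← hk', ← zpow_natCast, ← zpow_mul, mul_comm, zpow_mul, zpow_natCast,
        hxa, one_zpow]
      obtain ⟨j, -, hj⟩ := (Nat.dvd_prime_pow Fact.out).1 (orderOf_dvd_of_pow_eq_one this)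
      exact ⟨j, by rwa [Subgroup.orderOf_coe] at hj⟩)).exists_le_sylow
    obtain ⟨c, hc⟩ := MulAction.exists_smul_eq G S PS
    have h2 : c * x * c⁻¹ ∈ τ.range := by
      rw [← hPS, ← hc]; exact ⟨x, hS (mem_zpowers x), rfl⟩
    obtain ⟨b, hb⟩ := h2
    have h3 : b ∈ T p τ := hker b (by rw [hb, map_mul, map_mul, map_inv, h1, mul_one, mul_inv_cancel])
    have h4 := hQn.conj_mem _ (mem_T.1 h3) c⁻¹
    rw [hb] at h4
    simpa [mul_assoc] using h4
  haveI hN₀n : (N₀.subgroupOf Lk).Normal := by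
    rw [show N₀.subgroupOf Lk = Q.subgroupOf Lk by ext x; exact ⟨fun hx => hx.2, fun hx => ⟨x.2, hx⟩⟩]
    infer_instance
  have hN₀Lk : N₀ ≤ Lk := inf_le_left
  have hcop : (Nat.card ↥(N₀.subgroupOf Lk)).Coprime (N₀.subgroupOf Lk).index := by
    obtain ⟨PL, hPL⟩ := (hN₀p.comap_subtype (H := N₀) (K := Lk)).exists_le_sylow
    have e : (PL : Subgroup ↥Lk) = N₀.subgroupOf Lk := le_antisymm (fun x hx => by
      obtain ⟨a, hax⟩ := PL.2 ⟨x, hx⟩
      exact hpel x x.2 ⟨a, by simpa using congrArg (fun y : ↥(PL : Subgroup ↥Lk) => ((y : ↥Lk) : G)) hax⟩) hPL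
    rw [← e]
    exact PL.card_coprime_index
  obtain ⟨K₀, hK₀⟩ := exists_right_complement'_of_coprime hcop
  set Kc := K₀.map Lk.subtype with hKcdef
  have hKcLk : Kc ≤ Lk := map_subtype_le _
  have hKccop : (Nat.card ↥Kc).Coprime p := by
    rw [hKcdef, card_map_of_injective Lk.subtype_injective, ← hK₀.symm.index_eq_card]
    obtain ⟨n, hn⟩ := IsPGroup.iff_card.1 (hN₀p.comap_subtype (H := N₀) (K := Lk))
    obtain ⟨PL, hPL⟩ := (hN₀p.comap_subtype (H := N₀) (K := Lk)).exists_le_sylow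
    have e : (PL : Subgroup ↥Lk) = N₀.subgroupOf Lk := le_antisymm (fun x hx => by
      obtain ⟨a, hax⟩ := PL.2 ⟨x, hx⟩
      exact hpel x x.2 ⟨a, by simpa using congrArg (fun y : ↥(PL : Subgroup ↥Lk) => ((y : ↥Lk) : G)) hax⟩) hPL
    rw [← e]
    exact ((Fact.out : p.Prime).coprime_iff_not_dvd.2 PL.not_dvd_index).symm
  have hLksup : ∀ x ∈ Lk, ∃ t ∈ N₀, ∃ c ∈ Kc, x = t * c := by
    intro x hx
    obtain ⟨t, ht, c, hc, e⟩ := mem_sup_of_normal_left.1 (hK₀.sup_eq_top.ge (mem_top (⟨x, hx⟩ : ↥Lk)))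
    exact ⟨t, ht, c, ⟨c, hc, rfl⟩, (congrArg Subtype.val e).symm⟩
  have hLW' : ∀ t ∈ L, t ∈ Q → t ∈ W := fun t htL htQ => by
    rw [hW]; exact ⟨htQ, hLE htL⟩
  -- the frame
  have hF : Frame p F L W Zw (D₀p.map τ) (D₁p.map τ) A₀ A₁ Kc πL := {
    ne_two := hp2, le₀ := le_sup_left, le₁ := le_sup_right, gen := le_rfl, up := hupL, lo := hloL
    normW := hLW, normZ := hLZ, isP := hQp.to_le hWQ, centZ := hWc
    Z_le₀ := map_mono inf_le_left, Z_le₁ := map_mono inf_le_right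
    le_W₀ := map_mono le_sup_left, le_W₁ := map_mono le_sup_right
    inf_le := by rw [← Subgroup.map_inf _ _ _ h.inj]
    prod := by
      rintro _ ⟨x, hx, rfl⟩
      rw [coe_sup_eq_mul hD₀L hD₁L] at hx
      obtain ⟨a, haD, b, hb, rfl⟩ := hx
      exact ⟨τ a, mem_map_of_mem τ haD, τ b, mem_map_of_mem τ hb, map_mul τ a b⟩
    comm₀ := by
      rintro _ ⟨a, haD, rfl⟩ _ ⟨b, hb, rfl⟩
      rw [← map_mul, ← map_mul]
      exact congrArg τ (hD₀C.ge hb a haD)
    comm₁ := by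
      rintro _ ⟨a, haD, rfl⟩ _ ⟨b, hb, rfl⟩
      rw [← map_mul, ← map_mul]
      exact congrArg τ (hD₁C.ge hb a haD)
    fix₀ := by
      rintro _ ⟨a, haA, rfl⟩ _ ⟨d, hd, rfl⟩
      replace hd : d ∈ D₀p := hd
      rw [← SetLike.mem_coe, coe_sup_eq_mul hDpL hYL] at hd
      obtain ⟨d, hdD, y, hy, rfl⟩ := hd
      have hc : τ a * τ d = τ d * τ a := hcomm₀ _ (mem_map_of_mem τ haA) _ (mem_map_of_mem τ hdD.1)
      refine hYZw ?_
      have e : τ a * τ (d * y) * (τ a)⁻¹ * (τ (d * y))⁻¹ = τ d * (τ a * τ y * (τ a)⁻¹ * (τ y)⁻¹) * (τ d)⁻¹ := by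
        rw [map_mul, show τ a * (τ d * τ y) = τ d * (τ a * τ y) by rw [← mul_assoc, hc, mul_assoc]]
        group
      rw [e]
      exact hYn.conj_mem _ (mul_mem (hYn.conj_mem _ (mem_map_of_mem τ hy) _) (inv_mem (mem_map_of_mem τ hy))) _
    fix₁ := by
      rintro _ ⟨_, ⟨a, haA, rfl⟩, rfl⟩ _ ⟨d, hd, rfl⟩
      obtain ⟨d₀, hd₀, he⟩ := mem_cj.1 hd
      rw [← SetLike.mem_coe, coe_sup_eq_mul hDpL hYL] at hd₀
      obtain ⟨d', hdD, y, hy, rfl⟩ := hd₀
      have hc : τ a * τ d' = τ d' * τ a := hcomm₀ _ (mem_map_of_mem τ haA) _ (mem_map_of_mem τ hdD.1)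
      refine hYZw ?_
      show g * τ a * g⁻¹ * τ d * (g * τ a * g⁻¹)⁻¹ * (τ d)⁻¹ ∈ Yg
      have e : g * τ a * g⁻¹ * τ d * (g * τ a * g⁻¹)⁻¹ * (τ d)⁻¹ =
          (g * τ d') * (τ a * τ y * (τ a)⁻¹ * (τ y)⁻¹) * (g * τ d')⁻¹ := by
        rw [← he, map_mul,
          show g * τ a * g⁻¹ * (g * (τ d' * τ y) * g⁻¹) = g * (τ a * τ d') * τ y * g⁻¹ by group, hc]
        group
      rw [e]
      exact hYn.conj_mem _ (mul_mem (hYn.conj_mem _ (mem_map_of_mem τ hy) _) (inv_mem (mem_map_of_mem τ hy))) _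
    Kc_le := hKcLk.trans hLkL, coprime := hKccop
    cover := fun k hk' => by
      obtain ⟨t, ht, c, hc, e⟩ := hLksup k ⟨k, hk', rfl⟩
      exact ⟨t, hLW' t (hLkL ht.1) ht.2, c, hc, e⟩ }
  -- the base: `E Y`
  have hbase : ∀ x ∈ Zw, (∀ k ∈ Kc, k * x = x * k) → ∀ l ∈ L, l ∈ normalizer (Kc : Set G) →
      (orderOf l).Coprime p → l * x = x * l := by
    intro x hx hfix l hl _ hlco
    obtain ⟨e, he, y, hy, rfl⟩ := hZwEY x hx
    have hle : ∀ k ∈ L, k * e = e * k := fun k hk' => (mem_centralizer_iff.1 (hLE hk') e he).symm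
    have hyfix : ∀ k ∈ Kc, k * y * k⁻¹ * y⁻¹ ∈ (Zg τ).map τ := by
      intro k hk'
      have : k * y = y * k := by
        have h1 := hfix k hk'
        rw [← mul_assoc, hle k (hLkL (hKcLk hk')), mul_assoc, mul_assoc] at h1
        exact mul_left_cancel h1
      rw [this, mul_inv_cancel_right, mul_inv_cancel]
      exact one_mem _
    have hZgY : (Zg τ).map τ ≤ Yg := map_mono (h.Zg_le_center.trans PushingUp.Side.center_le_Y)
    have hYab : ∀ a ∈ Yg, ∀ b ∈ Yg, a * b * a⁻¹ * b⁻¹ ∈ (Zg τ).map τ := by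
      rintro _ ⟨a, haY, rfl⟩ _ ⟨b, hb, rfl⟩
      have : τ a * τ b * (τ a)⁻¹ * (τ b)⁻¹ = 1 := by
        rw [← map_mul, h.Y_comm haY hb, map_mul]; group
      rw [this]; exact one_mem _
    have hLZg : L ≤ normalizer (((Zg τ).map τ : Subgroup G) : Set G) :=
      le_top.trans (normalizer_eq_top_iff.2 (PushingUp.Zg_normal τ)).ge
    have hc := hF.layer Yg ((Zg τ).map τ) hZgY (hQp.to_le ((hYZw.trans (hF.Z_le₀.trans hF.le_W₀)).trans hWQ))
      (le_top.trans (normalizer_eq_top_iff.2 hYn).ge) hLZg hYab (fun t ht _ r hr => by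
        rw [← mem_centralizer_iff.1 (hWc ht) r (hYZw hr), mul_inv_cancel_right, mul_inv_cancel]
        exact one_mem _)
      (by
        rintro _ ⟨w, hw, rfl⟩
        have hw' : w ∈ center P ⊔ cj τ g (center P) := (h.center_sup_cj hgen).ge hw
        obtain ⟨a, haZ, b, hb, rfl⟩ := mem_sup_of_normal_left.1 hw'
        obtain ⟨c, hc, hce⟩ := mem_cj.1 hb
        refine ⟨τ a, mem_map_of_mem τ (PushingUp.Side.center_le_Y haZ), τ b, ?_, map_mul τ a b, ?_, ?_⟩
        · exact mem_map_of_mem τ ((h.cj_Y g).le (PushingUp.Real.cj_mono PushingUp.Side.center_le_Y hb))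
        · rintro _ ⟨a', -, rfl⟩
          rw [← map_mul, mem_center_iff.1 haZ a', map_mul, mul_inv_cancel_right, mul_inv_cancel]
          exact one_mem _
        · rintro _ ⟨_, ⟨a', -, rfl⟩, rfl⟩
          have : g * τ a' * g⁻¹ * (g * τ c * g⁻¹) * (g * τ a' * g⁻¹)⁻¹ * (g * τ c * g⁻¹)⁻¹ = 1 := by
            have : τ a' * τ c = τ c * τ a' := by rw [← map_mul, mem_center_iff.1 hc a', map_mul]
            rw [show g * τ a' * g⁻¹ * (g * τ c * g⁻¹) = g * (τ a' * τ c) * g⁻¹ by group, this]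
            group
          show g * τ a' * g⁻¹ * τ b * (g * τ a' * g⁻¹)⁻¹ * (τ b)⁻¹ ∈ _
          rw [← hce, this]
          exact one_mem _)
      hy hyfix hl
    obtain ⟨z, hz, hze⟩ := hc
    have hzc : ∀ k : G, k * τ z = τ z * k := PushingUp.Real.mem_Zg.1 hz
    obtain ⟨a, haz⟩ := h.isP z
    have hz1 : τ z = 1 := by
      refine PushingUp.coprime_stab (p := p) (c := l) (x := y) hlco (pow_orderOf_eq_one l) ?_ ?_ (a := a) ?_
      · rw [hzc l, mul_inv_cancel_right]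
      · rw [hzc y, hze, inv_mul_cancel_right]
      · rw [← map_pow, haz, map_one]
    rw [hz1, eq_comm, mul_inv_eq_one, mul_inv_eq_iff_eq_mul] at hze
    rw [← mul_assoc, hle l hl, mul_assoc, hze, mul_assoc]
  have hfixQ := up_induction (T := Q) hQp (hEZw.trans (hF.Z_le₀.trans hF.le_W₀)) hW hLQ hLE hF.Kc_le
    (hF.fixed hbase)
  -- the subgroup acting trivially on `R` modulo `N`
  let X₀ : Subgroup G :=
    { carrier := {x | ∀ w ∈ R, ⁅x, w⁆ ∈ N}
      one_mem' := fun w _ => by simp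
      mul_mem' := fun {a b} haX hb w hw => by
        rw [show ⁅a * b, w⁆ = a * ⁅b, w⁆ * a⁻¹ * ⁅a, w⁆ by simp [commutatorElement_def]; group]
        exact mul_mem ((inferInstance : N.Normal).conj_mem _ (hb w hw) a) (haX w hw)
      inv_mem' := fun {a} haX w hw => by
        rw [show ⁅a⁻¹, w⁆ = a⁻¹ * ⁅a, w⁆⁻¹ * a⁻¹⁻¹ by simp [commutatorElement_def]; group]
        exact (inferInstance : N.Normal).conj_mem _ (inv_mem (haX w hw)) _ }
  haveI : X₀.Normal := ⟨fun x hx c w hw => by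
    rw [show ⁅c * x * c⁻¹, w⁆ = c * ⁅x, c⁻¹ * w * c⁆ * c⁻¹ by simp [commutatorElement_def]; group]
    refine (inferInstance : N.Normal).conj_mem _ (hx _ ?_) c
    simpa using (inferInstance : R.Normal).conj_mem w hw c⁻¹⟩
  have hKX : ∀ k ∈ Kc, k ∈ X₀ := fun k hk' w hw => by
    rw [← commutatorElement_inv]
    exact inv_mem (hk k (hLksgn k (hKcLk hk')) w hw)
  have hNn : ∀ n ∈ L, n ∈ normalizer (Kc : Set G) → (orderOf n).Coprime p → n ∈ X₀ := by
    intro n hn hnK hnco w hw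
    have hRp : IsPGroup p R := hQp.to_le hR
    have hcop' : (Nat.card ↥Kc).Coprime (Nat.card ↥R) := by
      obtain ⟨m, hm⟩ := IsPGroup.iff_card.1 hRp
      rw [hm]; exact hKccop.pow_right m
    haveI : Group.IsNilpotent ↥R := hRp.isNilpotent
    obtain ⟨c, hc, hcw⟩ := Coprime.exists_mem_centralizer_of_coset (A := Kc) (K := R)
      (le_top.trans (normalizer_eq_top_iff.2 inferInstance).ge) hcop' (Or.inr inferInstance)
      (N := R ⊓ N) inf_le_left (le_top.trans (normalizer_eq_top_iff.2 inferInstance).ge) hw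
      (fun k hk' => by
        have h7 : ⁅k, w⁆ ∈ N := hKX k hk' w hw
        rw [commutatorElement_def] at h7
        exact ⟨R.mul_mem ((inferInstance : R.Normal).conj_mem w hw k) (R.inv_mem hw), h7⟩)
    have hnc := hfixQ c (hR hc.1) (fun k hk' => mem_centralizer_iff.1 hc.2 k hk') n hn hnK hnco
    rw [show ⁅n, w⁆ = (n * (c * w⁻¹)⁻¹ * n⁻¹) * (n * c * n⁻¹) * c⁻¹ * (c * w⁻¹) by
      rw [commutatorElement_def]; group, hnc, mul_inv_cancel_right, mul_inv_cancel_right]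
    exact mul_mem ((inferInstance : N.Normal).conj_mem _ (N.inv_mem hcw.2) n) hcw.2
  have hLT : L ⊔ Q = ⊤ := by
    refine top_le_iff.1 ((h.gen_top hgen huT).ge.trans (sup_le (zpowers_le.2 ?_) ?_))
    · exact mem_sup_left (mem_sup_right ⟨τ u, mem_map_of_mem τ huA, rfl⟩)
    · rintro _ ⟨b, rfl⟩
      obtain ⟨a, haA, t, ht, rfl⟩ := mem_sup_of_normal_right.1 (hAtop.ge (mem_top b) : b ∈ Ap ⊔ T p τ)
      rw [map_mul]
      exact mul_mem (mem_sup_left (mem_sup_left (mem_map_of_mem τ haA))) (mem_sup_right (hτQ ht))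
  have hfrat : ∀ l ∈ L, ∃ t ∈ Q, t * l ∈ normalizer (Kc : Set G) ∧ t * l ∈ L := by
    intro l hl
    haveI : Group.IsNilpotent ↥N₀ := hN₀p.isNilpotent
    have hnormLk : ∀ y ∈ L, ∀ x ∈ Lk, y * x * y⁻¹ ∈ Lk := by
      rintro y hy _ ⟨x, hx, rfl⟩
      exact ⟨⟨y, hy⟩ * x * ⟨y, hy⟩⁻¹, (sgnKer_normal πL).conj_mem x hx _, rfl⟩
    have hKN : Kc ≤ normalizer (N₀ : Set G) := fun k hk' => by
      rw [mem_normalizer_iff_map_conj_eq]
      refine eq_of_le_of_card_ge ?_ (card_map_of_injective (MulAut.conj _).injective).ge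
      rintro _ ⟨x, hx, rfl⟩
      exact ⟨hnormLk k (hLkL (hKcLk hk')) x hx.1, hQn.conj_mem x hx.2 k⟩
    have hcop' : (Nat.card ↥Kc).Coprime (Nat.card ↥N₀) := by
      obtain ⟨m, hm⟩ := IsPGroup.iff_card.1 hN₀p
      rw [hm]; exact hKccop.pow_right m
    obtain ⟨n, hn, hnK⟩ := Coprime.exists_conj_eq_of_le_sup hKN hcop' (Or.inr inferInstance)
      (L := MulAut.conj l • Kc) (fun x hx => by
        rw [Coprime.mem_conj] at hx
        obtain ⟨t, ht, c, hc, e⟩ := hLksup x (by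
          have := hnormLk l hl _ (hKcLk hx)
          simpa [mul_assoc] using this)
        rw [e]
        exact mul_mem (mem_sup_left ht) (mem_sup_right hc))
      (Coprime.card_conj l Kc)
    refine ⟨n⁻¹, inv_mem hn.2, Coprime.mem_normalizer_of_conj_eq ?_, mul_mem (inv_mem (hLkL hn.1)) hl⟩
    rw [map_mul, mul_smul, ← hnK, ← mul_smul, ← map_mul, inv_mul_cancel, map_one, one_smul]
  intro x hx w hw
  set X := X₀ ⊔ Q
  haveI : X.Normal := sup_normal _ _
  have hcopf : ∀ {K : Type u} [Group K] (f : G →* K), ∀ a : ℕ, f x ^ p ^ a = 1 → f x = 1 := fun f a e =>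
    orderOf_eq_one_iff.1 (Nat.eq_one_of_dvd_coprimes (hx.pow_right a) (orderOf_map_dvd f x)
      (orderOf_dvd_of_pow_eq_one e))
  have hxX : x ∈ X := by
    obtain ⟨l, hl, t, ht, rfl⟩ := mem_sup_of_normal_right.1 (hLT.ge (mem_top x))
    obtain ⟨t', ht', hnK, hnL⟩ := hfrat l hl
    obtain ⟨a, m, hm, hord⟩ := Nat.exists_eq_pow_mul_and_not_dvd (orderOf_pos (t' * l)).ne' p
      (Fact.out : p.Prime).ne_one
    have hn' : (t' * l) ^ p ^ a ∈ X₀ := by
      refine hNn _ (pow_mem hnL _) (pow_mem hnK _) ?_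
      rw [orderOf_pow' _ (pow_ne_zero _ (Fact.out : p.Prime).ne_zero), hord, Nat.gcd_mul_right_left,
        Nat.mul_div_cancel_left _ (pow_pos (Fact.out : p.Prime).pos a)]
      exact ((Fact.out : p.Prime).coprime_iff_not_dvd.2 hm).symm
    set f := QuotientGroup.mk' X
    have hf1 : ∀ y ∈ Q, f y = 1 := fun y hy => (QuotientGroup.eq_one_iff y).2 (mem_sup_right hy)
    have e1 : f (l * t) = f (t' * l) := by rw [map_mul, map_mul, hf1 _ ht, hf1 _ ht', mul_one, one_mul]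
    refine (QuotientGroup.eq_one_iff (l * t)).1 (hcopf f a ?_)
    rw [e1, ← map_pow]
    exact (QuotientGroup.eq_one_iff _).2 (mem_sup_left hn')
  obtain ⟨y, hy, t, ht, hyt⟩ := mem_sup_of_normal_left.1 hxX
  obtain ⟨a, ha'⟩ := hQp ⟨t, ht⟩
  refine (QuotientGroup.eq_one_iff x).1 (hcopf (QuotientGroup.mk' X₀) a ?_) w hw
  rw [← hyt, map_mul, show QuotientGroup.mk' X₀ y = 1 from (QuotientGroup.eq_one_iff y).2 hy, one_mul, ← map_pow,
    show t ^ p ^ a = 1 by simpa using congrArg Subtype.val ha', map_one]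

end Cfsg.Agent.CharFocal.Duo
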