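import Cfsg.Agent.Lib.CharFocal.Main
import Cfsg.Agent.Lib.CharFocal.Duo.Setup
import Cfsg.Agent.Lib.CharFocal.Duo.Side
import Cfsg.Agent.Lib.PushingUp.Assemble

/-!
A minimal failure of transfer control by the two functors does not exist for odd `p`.

* `false_of_base`
-/

set_option autoImplicit false
set_option maxHeartbeats 2000000

namespace Cfsg.Agent.CharFocal.Duo

open Subgroup
open Cfsg.Agent.CentrallyLarge Cfsg.Agent.PushingUp
open PLocal (maxIn elemAb)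
open FFMinimal (zAct zProj Off)
open OffenderSL2 (fixS cj mem_cj)
open RankOne (upSL)
open scoped commutatorElement MatrixGroups IsMulCommutative

universe u

variable {G : Type u} [Group G] [Finite G] {p : ℕ} [Fact p.Prime]

/-- No minimal failure. -/
theorem false_of_base {S : Sylow p G} {M F : Subgroup G} (h : Base p S M F) (hp2 : p ≠ 2) : False := by
  classical
  set Q := Cfsg.pCore p G with hQdef
  haveI hQn : Q.Normal := Cores.pCore_normal p G
  have hQp : IsPGroup p Q := Cores.isPGroup_pCore p G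
  have hQS : Q ≤ (S : Subgroup G) := Cores.pCore_le_sylow S
  have hS := FFMinimal.setupData h.charP S
  have hCM := h.centralizer_le
  obtain ⟨hpm, hcore⟩ := @Base.quotient _ _ _ _ _ _ _ _ h hS.normal
  obtain ⟨A₀, hA₀, hA₀C⟩ := h.exists_offender
  generalize hVdef : Cfsg.omegaOneCenter p (Cfsg.pCore p G) = V at hS hCM hpm hcore hA₀C
  haveI := hS.elem.1
  haveI := hS.normal
  have hVQ : V ≤ Q := hS.le_core
  have hmin := h.isPMinimal
  set C := centralizer (V : Set G) with hCdef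
  have hQC : Q ≤ C := hS.core
  have hCS : C ⊓ (S : Subgroup G) ≤ Q := PMinimal.sylow_inf_normal_le_pCore S h.coatom h.sylow_le hmin C hCM
  set mk := QuotientGroup.mk' C with hmk
  have hsurj := QuotientGroup.mk'_surjective C
  have hker : mk.ker = C := QuotientGroup.ker_mk' C
  have hmk1 : ∀ g, mk g = 1 ↔ g ∈ C := fun g => QuotientGroup.eq_one_iff g
  set Tb : Sylow p (G ⧸ C) := S.mapSurjective hsurj with hTb
  have hTbS : (Tb : Subgroup (G ⧸ C)) = (S : Subgroup G).map mk := rfl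
  have hexp := FFMinimal.exponent_of (G := G) hS.elem
  have hNtop := FFMinimal.normalizer_eq_top_of (inferInstance : V.Normal)
  -- offenders
  have hoff : ∀ A ∈ maxIn (elemAb p) (S : Subgroup G), ¬ A ≤ C → Off (zAct (V := V)) p (A.map mk) := by
    intro A hA hAC
    have hb := PLocal.isBestOffenderOn_of_maxIn hA hS.elem (hVQ.trans hQS)
    have h1 := FFMinimal.off_of_best (K := (⊤ : Subgroup G)) hNtop (FFMinimal.zProj_surjective (V := V))
      FFMinimal.zAct_proj FFMinimal.zProj_ker le_top hAC hb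
    rwa [show (A.subgroupOf ⊤).map (zProj (V := V)) = A.map mk by
      rw [zProj, ← Subgroup.map_map, map_subgroupOf_eq_of_le le_top]] at h1
  have hA₀off := hoff A₀ hA₀ hA₀C
  obtain ⟨r, E, hE, hDn, -, hall⟩ :=
    FFMinimal.exists_split_full hexp FFMinimal.zAct_faith hpm hcore ⟨_, hA₀off⟩ Tb
  obtain ⟨c⟩ := exists_coord Tb hE hp2 hexp FFMinimal.zAct_faith
  set U := c.U with hUdef
  have hUp : IsPGroup p U := Tb.2.to_le inf_le_left
  have hUne : U ≠ ⊥ := by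
    intro e
    obtain ⟨u, hu, hut⟩ := c.exists_mem_U fun _ => 1
    have hu1 : u = 1 := mem_bot.1 (e ▸ hu)
    subst hu1
    have := hut ⟨0, hE.pos⟩
    rw [show (⟨(1 : G ⧸ C), _⟩ : ↥(⨆ j, E j)) = 1 from rfl, map_one] at this
    exact one_ne_zero (RankOne.upSL_eq_one_iff.1 this.symm)
  have hAU : ∀ A ∈ maxIn (elemAb p) (S : Subgroup G), A.map mk ≤ U := by
    intro A hA
    refine le_inf (hTbS ▸ map_mono hA.1) ?_
    by_cases hAC : A ≤ C
    · rw [(Subgroup.map_eq_bot_iff _).2 (hAC.trans hker.ge)]; exact bot_le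
    · exact hall _ (hoff A hA hAC)
  -- the action on `V`
  have hval : ∀ g : G, ∀ v : Additive ↥V,
      FFMinimal.gval (zAct (V := V) (mk g) v) = g * FFMinimal.gval v * g⁻¹ := by
    intro g v
    have : mk g = zProj (V := V) ⟨g, mem_top g⟩ := rfl
    rw [this, FFMinimal.zAct_proj, FFMinimal.gval_act]
  -- the replacement inside `Q`
  have hrepl : ∀ A ∈ maxIn (elemAb p) (S : Subgroup G),
      (A ⊓ C) ⊔ V ∈ maxIn (elemAb p) (S : Subgroup G) ∧ (A ⊓ C) ⊔ V ≤ Q := by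
    intro A hA
    have hle : A ⊓ C ≤ Q := fun x hx => hCS ⟨hx.2, hA.1 hx.1⟩
    have hX : elemAb p ((A ⊓ C) ⊔ V) := PLocal.elemAb_sup (PLocal.elemAb_mono hA.2.1 inf_le_left) hS.elem inf_le_right
    refine ⟨⟨(sup_le hle hVQ).trans hQS, hX, fun B hB hBe => (hA.2.2 B hB hBe).trans ?_⟩, sup_le hle hVQ⟩
    obtain ⟨s, -, -, hwt, -⟩ := c.wt_le (hAU A hA)
    let f : ↥A →* G ⧸ C := mk.comp A.subtype
    have h1 : Nat.card ↥A ≤ Nat.card ↥(A.map mk) * Nat.card ↥(A ⊓ C) := by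
      rw [← f.ker.index_mul_card, Subgroup.index_ker]
      refine Nat.mul_le_mul ?_ ?_
      · rw [show f.range = A.map mk by rw [MonoidHom.range_eq_map, ← Subgroup.map_map, ← MonoidHom.range_eq_map,
          A.range_subtype]]
      · exact Nat.card_le_card_of_injective (fun x : ↥f.ker => (⟨x.1.1, x.1.2, (hmk1 _).1 x.2⟩ : ↥(A ⊓ C)))
          fun a b e => Subtype.ext (Subtype.ext (congrArg (fun z : ↥(A ⊓ C) => (z : G)) e))
    have h2 : Nat.card ↥(V ⊓ centralizer (A : Set G)) ≤ Nat.card ↥(fixS (zAct (V := V)) (A.map mk)) := by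
      refine Nat.card_le_card_of_injective (fun x => ⟨FFMinimal.gmk x.2.1, ?_⟩) fun a b e =>
        Subtype.ext (congrArg (fun z : ↥(fixS (zAct (V := V)) (A.map mk)) => FFMinimal.gval (z : Additive ↥V)) e)
      rintro _ ⟨a, ha, rfl⟩
      refine FFMinimal.gval_injective ?_
      rw [hval, FFMinimal.gval_gmk, mem_centralizer_iff.1 x.2.2 a ha, mul_inv_cancel_right]
    have h3 := PLocal.card_sup_mul_card_inf (H := A ⊓ C) (K := V)
      ((le_centralizer_iff.1 (inf_le_right : A ⊓ C ≤ C)).trans (centralizer_le_normalizer _))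
    have h4 : Nat.card ↥((A ⊓ C) ⊓ V) ≤ Nat.card ↥(V ⊓ centralizer (A : Set G)) :=
      card_le_of_le fun x hx => ⟨hx.2, PLocal.elemAb_le_centralizer hA.2.1 hx.1.1⟩
    have h5 : Nat.card ↥(V ⊓ centralizer (A : Set G)) * Nat.card ↥(A.map mk) ≤ Nat.card ↥V := by
      refine le_trans ?_ hwt
      rw [mul_comm]
      exact Nat.mul_le_mul_left _ h2
    refine Nat.le_of_mul_le_mul_left ?_ (Nat.card_pos (α := ↥(V ⊓ centralizer (A : Set G))))
    calc Nat.card ↥(V ⊓ centralizer (A : Set G)) * Nat.card ↥A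
        ≤ Nat.card ↥(V ⊓ centralizer (A : Set G)) * (Nat.card ↥(A.map mk) * Nat.card ↥(A ⊓ C)) :=
          Nat.mul_le_mul_left _ h1
      _ ≤ Nat.card ↥V * Nat.card ↥(A ⊓ C) := by rw [← mul_assoc]; exact Nat.mul_le_mul_right _ h5
      _ = Nat.card ↥(A ⊓ C ⊔ V) * Nat.card ↥((A ⊓ C) ⊓ V) := by rw [h3, mul_comm]
      _ ≤ Nat.card ↥(V ⊓ centralizer (A : Set G)) * Nat.card ↥(A ⊓ C ⊔ V) := by
          rw [mul_comm]; exact Nat.mul_le_mul_right _ h4
  set J := Cfsg.thompsonSubgroupOf p (S : Subgroup G) with hJdef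
  have hAJ : ∀ A ∈ maxIn (elemAb p) (S : Subgroup G), A ≤ J := fun A hA => by
    rw [hJdef, PLocal.thompsonSubgroupOf_eq]; exact le_sSup hA
  have hJS : J ≤ (S : Subgroup G) := PLocal.thompsonSubgroupOf_le _
  set Z := Cfsg.omegaOne p (Cfsg.centerThompsonOf p (S : Subgroup G)) with hZdef
  have hZmem : ∀ z, z ∈ Z ↔ z ∈ J ∧ (∀ j ∈ J, j * z = z * j) ∧ z ^ p = 1 := fun z =>
    PReduced.mem_omegaOne_center
  have hZA : ∀ A ∈ maxIn (elemAb p) (S : Subgroup G), Z ≤ A := fun A hA z hz => by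
    obtain ⟨hzJ, hzc, hzp⟩ := (hZmem z).1 hz
    exact PLocal.mem_of_centralizes hA (hJS hzJ) hzp (mem_centralizer_iff.2 fun a ha => hzc a (hAJ A hA ha))
  obtain ⟨A₁, hA₁⟩ := PLocal.exists_maxIn (Q := elemAb p) PLocal.elemAb_bot (S : Subgroup G)
  have hZQ : Z ≤ Q := (hZA _ (hrepl A₁ hA₁).1).trans (hrepl A₁ hA₁).2
  have hconjZ : ∀ A ∈ maxIn (elemAb p) (S : Subgroup G), ∀ g : G, ∀ z ∈ Z, g * z * g⁻¹ ∈ (A ⊓ C) ⊔ V := by
    intro A hA g z hz
    obtain ⟨hX, hXQ⟩ := hrepl A hA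
    have hX' : ((A ⊓ C) ⊔ V).map (MulAut.conj g⁻¹).toMonoidHom ∈ maxIn (elemAb p) (S : Subgroup G) := by
      refine ⟨?_, PLocal.elemAb_map _ hX.2.1, fun B hB hBe => (hX.2.2 B hB hBe).trans_eq
        (card_map_of_injective (MulAut.conj g⁻¹).injective).symm⟩
      rintro _ ⟨y, hy, rfl⟩
      exact hQS (hQn.conj_mem y (hXQ hy) g⁻¹)
    obtain ⟨y, hy, hyz⟩ := hZA _ hX' hz
    have : g⁻¹ * y * g⁻¹⁻¹ = z := hyz
    rw [show g * z * g⁻¹ = y by rw [← this]; group]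
    exact hy
  -- `J(S)` covers `U`
  have hJU : J.map mk ≤ U := by
    rw [Subgroup.map_le_iff_le_comap, hJdef, PLocal.thompsonSubgroupOf_eq]
    exact sSup_le fun A hA => Subgroup.map_le_iff_le_comap.1 (hAU A hA)
  have hUJ : U ≤ J.map mk := by
    obtain ⟨A, hA, hAC⟩ : ∃ A ∈ maxIn (elemAb p) (S : Subgroup G), ¬ A ≤ C := ⟨A₀, hA₀, hA₀C⟩
    refine c.U_le_of_off (hAU A hA) (hoff A hA hAC).ne (hoff A hA hAC).le (map_mono (hAJ A hA)) hDn ?_ hE.conj
    rintro _ ⟨s, hs, rfl⟩ _ ⟨j, hj, rfl⟩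
    refine ⟨s * j * s⁻¹, ?_, by rw [map_mul, map_mul, map_inv]⟩
    exact (mem_normalizer_iff.1 (PLocal.normalizer_le_normalizer_thompsonSubgroupOf _ (le_normalizer hs)) j).1 hj
  obtain ⟨x₀, hx₀, hgenE, hVfix⟩ := c.exists_opp
  have htop : normalClosure (J : Set G) ⊔ (S : Subgroup G) = ⊤ := by
    by_contra hne'
    have hle := h.uniq _ le_sup_right hne'
    have h1 : (⊤ : Subgroup (G ⧸ C)) ≤ (normalClosure (J : Set G) ⊔ (S : Subgroup G)).map mk := by
      rw [← hE.sup, Subgroup.map_sup]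
      refine sup_le_sup (hgenE.trans ?_) le_rfl
      have hn : ((normalClosure (J : Set G)).map mk).Normal := Subgroup.Normal.map normalClosure_normal mk hsurj
      have hU1 : U ≤ (normalClosure (J : Set G)).map mk := hUJ.trans (map_mono le_normalClosure)
      refine sup_le hU1 ?_
      rintro _ ⟨u, hu, rfl⟩
      exact hn.conj_mem u (hU1 hu) x₀
    have h2 := (comap_mono (f := mk) h1)
    rw [comap_top, comap_map_eq, hker] at h2
    exact h.coatom.1 (top_le_iff.1 (h2.trans (sup_le hle hCM)))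
  set X := V ⊔ Z with hXdef
  have hZS : Z ≤ (S : Subgroup G) := hZQ.trans hQS
  have hSZ : (S : Subgroup G) ≤ normalizer (Z : Set G) := by
    intro s hs
    have hJn := PLocal.normalizer_le_normalizer_thompsonSubgroupOf (p := p) _ (le_normalizer hs)
    rw [mem_normalizer_iff_map_conj_eq] at hJn ⊢
    rw [hZdef, Cfsg.centerThompsonOf, PLocal.map_omegaOne _ (MulAut.conj s).injective.injOn,
      PushUp.map_inf_centralizer (MulAut.conj s).injective, hJn]
  haveI hXn : X.Normal := by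
    refine normalizer_eq_top_iff.1 (top_le_iff.1 ?_)
    rw [← htop]
    refine sup_le ?_ ?_
    · refine (closure_le _).2 ?_
      intro y hy
      obtain ⟨j, hj, hjy⟩ := Group.mem_conjugatesOfSet_iff.1 hy
      obtain ⟨g, rfl⟩ := isConj_iff.1 hjy
      have hJle : J ≤ (normalizer (X : Set G)).comap (MulAut.conj g).toMonoidHom := by
        rw [hJdef, PLocal.thompsonSubgroupOf_eq]
        refine sSup_le fun A hA a ha => ?_
        show g * a * g⁻¹ ∈ normalizer (X : Set G)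
        have key : ∀ a ∈ A, X.map (MulAut.conj (g * a * g⁻¹)).toMonoidHom ≤ X := by
          intro a ha
          rw [hXdef, Subgroup.map_sup]
          refine sup_le ?_ ?_
          · rintro _ ⟨v, hv, rfl⟩
            exact mem_sup_left ((inferInstance : V.Normal).conj_mem v hv _)
          rintro _ ⟨z, hz, rfl⟩
          obtain ⟨y, hy, v, hv, hyv⟩ := mem_sup_of_normal_right.1 (hconjZ A hA g⁻¹ z hz)
          have hya : a * y = y * a := (mem_centralizer_iff.1 (PLocal.elemAb_le_centralizer hA.2.1 hy.1) a ha)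
          have hz' : z = g * (y * v) * g⁻¹ := by rw [hyv]; group
          have hgoal : g * a * g⁻¹ * z * (g * a * g⁻¹)⁻¹ = (g * y * (a * v * a⁻¹ * v⁻¹) * y⁻¹ * g⁻¹) * z := by
            rw [hz']
            calc g * a * g⁻¹ * (g * (y * v) * g⁻¹) * (g * a * g⁻¹)⁻¹ = g * (a * y) * v * a⁻¹ * g⁻¹ := by group
              _ = g * (y * a) * v * a⁻¹ * g⁻¹ := by rw [hya]
              _ = _ := by group
          show g * a * g⁻¹ * z * (g * a * g⁻¹)⁻¹ ∈ V ⊔ Z
          rw [hgoal]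
          refine mul_mem (mem_sup_left ?_) (mem_sup_right hz)
          have h1 : a * v * a⁻¹ * v⁻¹ ∈ V := mul_mem ((inferInstance : V.Normal).conj_mem v hv a) (inv_mem hv)
          have h2 := (inferInstance : V.Normal).conj_mem _ h1 (g * y)
          rwa [show g * y * (a * v * a⁻¹ * v⁻¹) * (g * y)⁻¹ = g * y * (a * v * a⁻¹ * v⁻¹) * y⁻¹ * g⁻¹ by group] at h2
        rw [mem_normalizer_iff_map_conj_eq]
        exact eq_of_le_of_card_ge (key a ha) (card_map_of_injective (MulAut.conj _).injective).ge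
      exact hJle hj
    · refine (le_inf (le_top.trans_eq (normalizer_eq_top_iff.2 (inferInstance : V.Normal)).symm) hSZ).trans ?_
      intro s hs
      rw [mem_normalizer_iff_map_conj_eq, hXdef, Subgroup.map_sup, (mem_normalizer_iff_map_conj_eq).1 hs.1,
        (mem_normalizer_iff_map_conj_eq).1 hs.2]
  have hXQ : X ≤ Q := sup_le hVQ hZQ
  have hXc : X ≤ centralizer (X : Set G) := by
    have hZ' : Z ≤ centralizer (V : Set G) := hZQ.trans hQC
    have hVab : V ≤ centralizer (V : Set G) := PLocal.elemAb_le_centralizer hS.elem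
    have hZab : Z ≤ centralizer (Z : Set G) := fun z hz => mem_centralizer_iff.2 fun y hy =>
      ((hZmem z).1 hz).2.1 y ((hZmem y).1 hy).1
    rw [hXdef, PLocal.centralizer_sup]
    exact sup_le (le_inf hVab (le_centralizer_iff.1 hZ')) (le_inf hZ' hZab)
  -- the Baumann subgroup
  set B := Cfsg.baumannSubgroupOf p (S : Subgroup G) with hBdef
  have hBS : B ≤ (S : Subgroup G) := inf_le_left
  have hBZ : B ≤ centralizer (Z : Set G) := inf_le_right
  have hJB : J ≤ B := le_inf hJS (le_centralizer_iff.1 fun z hz => mem_centralizer_iff.2 fun j hj =>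
    ((hZmem z).1 hz).2.1 j hj)
  have hfixZ : ∀ v ∈ fixS (zAct (V := V)) U, FFMinimal.gval v ∈ Z := by
    intro v hv
    have hvS : FFMinimal.gval v ∈ (S : Subgroup G) := hQS (hVQ (FFMinimal.gval_mem v))
    have hcomm : ∀ j ∈ J, j * FFMinimal.gval v = FFMinimal.gval v * j := fun j hj => by
      have := hval j v
      rw [hv _ (hJU ⟨j, hj, rfl⟩)] at this
      exact (mul_inv_eq_iff_eq_mul.1 this.symm)
    have hvp : FFMinimal.gval v ^ p = 1 := hS.elem.2 _ (FFMinimal.gval_mem v)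
    exact (hZmem _).2 ⟨hAJ A₁ hA₁ (PLocal.mem_of_centralizes hA₁ hvS hvp
      (mem_centralizer_iff.2 fun a ha => hcomm a (hAJ A₁ hA₁ ha))), hcomm, hvp⟩
  have hBU : B.map mk = U := by
    refine le_antisymm ?_ (hUJ.trans (map_mono hJB))
    rintro _ ⟨b, hb, rfl⟩
    refine c.mem_U_of_fix ⟨b, hBS hb, rfl⟩ Tb.2 hexp FFMinimal.zAct_faith hDn hE.pos hall fun v hv => ?_
    refine FFMinimal.gval_injective ?_
    rw [hval, (mem_centralizer_iff.1 (hBZ hb) _ (hfixZ v hv)).symm, mul_inv_cancel_right]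
  set R := Q ⊓ centralizer (X : Set G) with hRdef
  haveI hRn : R.Normal := by rw [hRdef]; infer_instance
  have hRB : R ≤ B := fun x hx => ⟨hQS hx.1, centralizer_le (le_sup_right : Z ≤ X) hx.2⟩
  have hSR : (S : Subgroup G) ⊓ centralizer (X : Set G) ≤ R := fun x hx =>
    ⟨hCS ⟨centralizer_le (le_sup_left : V ≤ X) hx.2, hx.1⟩, hx.2⟩
  have hBC : B ⊓ C ≤ R := fun x hx => by
    refine hSR ⟨hBS hx.1, ?_⟩
    rw [hXdef, PLocal.centralizer_sup]
    exact ⟨hx.2, hBZ hx.1⟩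
  have hXR : X ≤ R := le_inf hXQ hXc
  have hCR : centralizer (R : Set G) ≤ R := by
    have h1 : (S : Subgroup G) ⊓ centralizer (R : Set G) ≤ R := fun x hx =>
      hSR ⟨hx.1, centralizer_le hXR hx.2⟩
    have h2 : centralizer (R : Set G) ≤ Q := by
      by_contra hcon
      obtain ⟨H, hH, hHp, hHne⟩ := FunctorControl.exists_coprime_normal S R h1 hcon
      exact hHne (h.coprime H hH hHp)
    exact fun x hx => h1 ⟨hQS (h2 hx), hx⟩
  -- the subgroup `L` generated by two conjugates of `B`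
  obtain ⟨g₀, rfl⟩ := hsurj x₀
  set L := B ⊔ B.map (MulAut.conj g₀).toMonoidHom with hLdef
  have hLE : L.map mk = U ⊔ cj U (mk g₀) := by
    rw [hLdef, Subgroup.map_sup, hBU]
    congr 1
    rw [← hBU]
    ext y
    constructor
    · rintro ⟨_, ⟨b, hb, rfl⟩, rfl⟩
      exact ⟨mk b, mem_map_of_mem _ hb, by simp⟩
    · rintro ⟨_, ⟨b, hb, rfl⟩, rfl⟩
      exact ⟨_, ⟨b, hb, rfl⟩, by simp⟩
  have hLD : L.map mk ≤ ⨆ j, E j := by
    rw [hLE]
    refine sup_le inf_le_right ?_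
    rintro _ ⟨u, hu, rfl⟩
    exact hDn.conj_mem u hu.2 _
  set Y := Z ⊓ Z.map (MulAut.conj g₀).toMonoidHom with hYdef
  have hLY : L ≤ centralizer (Y : Set G) := by
    refine sup_le (hBZ.trans (centralizer_le inf_le_left)) ?_
    rintro _ ⟨b, hb, rfl⟩
    refine mem_centralizer_iff.2 fun y hy => ?_
    obtain ⟨z, hz, rfl⟩ := hy.2
    rw [← map_mul, ← map_mul, mem_centralizer_iff.1 (hBZ hb) z hz]
  have hXY : X ≤ Y ⊔ V := by
    intro x hx
    obtain ⟨v₁, hv₁, a, ha, rfl⟩ := mem_sup_of_normal_left.1 hx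
    have hx' : g₀⁻¹ * (v₁ * a) * g₀ ∈ X := by simpa using hXn.conj_mem _ hx g₀⁻¹
    obtain ⟨v₂, hv₂, a₂, ha₂, he⟩ := mem_sup_of_normal_left.1 hx'
    set a' := g₀ * a₂ * g₀⁻¹ with ha'
    set v' := g₀ * v₂ * g₀⁻¹ with hv'
    have hv'V : v' ∈ V := (inferInstance : V.Normal).conj_mem v₂ hv₂ g₀
    have hxe : v₁ * a = v' * a' := by
      rw [ha', hv', show g₀ * v₂ * g₀⁻¹ * (g₀ * a₂ * g₀⁻¹) = g₀ * (v₂ * a₂) * g₀⁻¹ by group, he]
      group
    have hd : v'⁻¹ * v₁ ∈ V := mul_mem (inv_mem hv'V) hv₁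
    obtain ⟨w₁, hw₁, w₂, hw₂, hw⟩ := hVfix (FFMinimal.gmk hd)
    have hwg : v'⁻¹ * v₁ = FFMinimal.gval w₁ * FFMinimal.gval w₂ := by
      have := congrArg FFMinimal.gval hw
      rwa [FFMinimal.gval_gmk, FFMinimal.gval_add] at this
    have hw₂Z : g₀⁻¹ * FFMinimal.gval w₂ * g₀ ∈ Z := by
      have h1 : zAct (V := V) (mk g₀⁻¹) w₂ ∈ fixS (zAct (V := V)) U := by
        intro u hu
        have h2 := hw₂ (mk g₀ * u * (mk g₀)⁻¹) ⟨u, hu, rfl⟩
        rw [OffenderSL2.app_mul, OffenderSL2.app_mul, ← map_inv] at h2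
        have := congrArg (zAct (V := V) (mk g₀⁻¹)) h2
        rwa [← OffenderSL2.app_mul, ← map_mul, inv_mul_cancel, map_one, OffenderSL2.app_one] at this
      have h3 := hfixZ _ h1
      rwa [hval, inv_inv] at h3
    -- `a' = w₁ w₂ a`
    have haa : a' = FFMinimal.gval w₁ * FFMinimal.gval w₂ * a := by
      rw [← hwg, mul_assoc, hxe, inv_mul_cancel_left]
    have hcw : FFMinimal.gval w₁ * FFMinimal.gval w₂ = FFMinimal.gval w₂ * FFMinimal.gval w₁ := by
      rw [← FFMinimal.gval_add, add_comm, FFMinimal.gval_add]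
    have hy : FFMinimal.gval w₁ * a ∈ Y := by
      refine ⟨mul_mem (hfixZ w₁ hw₁) ha, g₀⁻¹ * (FFMinimal.gval w₁ * a) * g₀, ?_, by simp; group⟩
      rw [show FFMinimal.gval w₁ * a = (FFMinimal.gval w₂)⁻¹ * a' by rw [haa, hcw]; group, ha']
      rw [show g₀⁻¹ * ((FFMinimal.gval w₂)⁻¹ * (g₀ * a₂ * g₀⁻¹)) * g₀ = (g₀⁻¹ * FFMinimal.gval w₂ * g₀)⁻¹ * a₂ by
        group]
      exact mul_mem (inv_mem hw₂Z) ha₂
    rw [show v₁ * a = v₁ * (FFMinimal.gval w₁)⁻¹ * (FFMinimal.gval w₁ * a) by group]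
    exact mul_mem (mem_sup_right (mul_mem hv₁ (inv_mem (FFMinimal.gval_mem w₁)))) (mem_sup_left hy)
  have hLC : ∀ x ∈ L, x ∈ C → x ∈ centralizer (X : Set G) := fun x hx hxC => by
    refine centralizer_le hXY ?_
    rw [PLocal.centralizer_sup]
    exact ⟨hLY hx, hxC⟩
  have hYn : ∀ q ∈ Q, ∀ y ∈ Y, q * y * q⁻¹ ∈ Y := by
    rintro q hq y ⟨hy, z, hz, rfl⟩
    refine ⟨(mem_normalizer_iff.1 (hSZ (hQS hq)) _).1 hy,
      (g₀⁻¹ * q * g₀) * z * (g₀⁻¹ * q * g₀)⁻¹, ?_, by simp; group⟩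
    exact (mem_normalizer_iff.1 (hSZ (hQS (by simpa using hQn.conj_mem q hq g₀⁻¹))) _).1 hz
  have hQL : ∀ x ∈ L, ∀ q ∈ Q, x * q * x⁻¹ * q⁻¹ ∈ R := by
    intro x hx q hq
    have hd : x * q * x⁻¹ * q⁻¹ ∈ Q := mul_mem (hQn.conj_mem q hq x) (inv_mem hq)
    refine ⟨hd, centralizer_le hXY ?_⟩
    rw [PLocal.centralizer_sup]
    refine ⟨mem_centralizer_iff.2 fun y hy => ?_, hQC hd⟩
    have hy1 : q⁻¹ * y * q ∈ Y := by simpa using hYn q⁻¹ (inv_mem hq) y hy
    have c1 : x * y = y * x := ((mem_centralizer_iff.1 (hLY hx)) y hy).symm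
    have c2 : x * (q⁻¹ * y * q) = (q⁻¹ * y * q) * x := ((mem_centralizer_iff.1 (hLY hx)) _ hy1).symm
    calc y * (x * q * x⁻¹ * q⁻¹) = (y * x) * q * x⁻¹ * q⁻¹ := by group
      _ = (x * y) * q * x⁻¹ * q⁻¹ := by rw [c1]
      _ = x * q * ((q⁻¹ * y * q) * x⁻¹) * q⁻¹ := by group
      _ = x * q * (x⁻¹ * (q⁻¹ * y * q)) * q⁻¹ := by
          congr 2
          rw [eq_inv_mul_iff_mul_eq, ← mul_assoc, c2, mul_inv_cancel_right]
      _ = (x * q * x⁻¹ * q⁻¹) * y := by group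
  -- one component
  set i₀ : Fin r := ⟨0, hE.pos⟩ with hi₀
  set E₁ := E i₀ ⊔ U with hE₁def
  set 𝒢 := {H : Subgroup G | B ≤ H ∧ H ≤ L ∧ H.map mk ≤ E₁ ∧ ¬ H ≤ M} with h𝒢
  have h𝒢ne : 𝒢.Nonempty := by
    refine ⟨L ⊓ E₁.comap mk, ⟨le_inf le_sup_left ?_, inf_le_left, map_le_iff_le_comap.2 inf_le_right, fun hle => ?_⟩⟩
    · rw [← map_le_iff_le_comap, hBU]; exact le_sup_right
    have h1 : E i₀ ≤ M.map mk := by
      intro y hy
      obtain ⟨l, hl, rfl⟩ : y ∈ L.map mk := by rw [hLE]; exact hgenE (le_iSup E i₀ hy)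
      exact ⟨l, hle ⟨hl, show mk l ∈ E₁ from mem_sup_left hy⟩, rfl⟩
    have h2 : (⊤ : Subgroup (G ⧸ C)) ≤ M.map mk := by
      rw [← hE.sup]
      refine sup_le (iSup_le fun j => ?_) (hTbS ▸ map_mono h.sylow_le)
      obtain ⟨t, ht, e⟩ := hE.conj i₀ j
      have htM : t ∈ M.map mk := (hTbS ▸ map_mono (f := mk) h.sylow_le :
        (Tb : Subgroup (G ⧸ C)) ≤ M.map mk) ht
      rw [← e]
      rintro _ ⟨y, hy, rfl⟩
      exact mul_mem (mul_mem htM (h1 hy)) (inv_mem htM)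
    have h3 := comap_mono (f := mk) h2
    rw [comap_top, comap_map_eq, hker, sup_eq_left.2 hCM] at h3
    exact h.coatom.1 (top_le_iff.1 h3)
  obtain ⟨G', ⟨hBG, hGL, hGE, hGM⟩, hG'min⟩ := Set.exists_min_image 𝒢 (fun H => Nat.card H) (Set.toFinite _) h𝒢ne
  have hG'max : ∀ H : Subgroup G, B ≤ H → H ≤ G' → ¬ H ≤ M → H = G' := fun H h1 h2 h3 =>
    eq_of_le_of_card_ge h2 (hG'min H ⟨h1, h2.trans hGL, (map_mono h2).trans hGE, h3⟩)
  -- `B` is a Sylow subgroup of `G'`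
  have hBp : IsPGroup p B := S.2.to_le hBS
  obtain ⟨P₁, hP₁⟩ := (hBp.comap_subtype (H := B) (K := G')).exists_le_sylow
  set W := (P₁ : Subgroup ↥G').map G'.subtype with hWdef
  have hWp : IsPGroup p W := P₁.2.map _
  have hWG : W ≤ G' := map_subtype_le _
  have hBW : B ≤ W := fun b hb => ⟨⟨b, hBG hb⟩, hP₁ hb, rfl⟩
  have hWB : W ≤ B := by
    have h1 : W ⊓ C ≤ (S : Subgroup G) := eq_of_normal S (inferInstance : (centralizer (X : Set G)).Normal)
      (hWp.to_le inf_le_left) (fun x hx => hLC x (hGL (hWG hx.1)) hx.2)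
      (fun x hx => by
        have hx' := hSR hx
        exact ⟨hBW (hRB hx'), hQC hx'.1⟩)
    have h2 : W.map mk ≤ (Tb : Subgroup (G ⧸ C)) := eq_of_normal Tb hDn (hWp.map _)
      ((map_mono (hWG.trans hGL)).trans hLD) (fun y hy => by
        have hyU : y ∈ B.map mk := by rw [hBU]; exact hy
        exact map_mono hBW hyU)
    intro w hw
    have hwU : mk w ∈ B.map mk := by
      rw [hBU]; exact ⟨h2 ⟨w, hw, rfl⟩, hLD ⟨w, hGL (hWG hw), rfl⟩⟩
    obtain ⟨b, hb, hbw⟩ := hwU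
    have h3 : b⁻¹ * w ∈ W ⊓ C := ⟨W.mul_mem (W.inv_mem (hBW hb)) hw, (hmk1 _).1 (by rw [map_mul, map_inv, hbw, inv_mul_cancel])⟩
    have h4 : b⁻¹ * w ∈ R := hSR ⟨h1 h3, hLC _ (hGL (hWG h3.1)) h3.2⟩
    simpa using B.mul_mem hb (hRB h4)
  have hP₁B : (P₁ : Subgroup ↥G') = B.subgroupOf G' :=
    le_antisymm (fun x hx => hWB ⟨x, hx, rfl⟩) hP₁
  -- the hypotheses of pushing up in `G'`
  have hRG : R ≤ G' := hRB.trans hBG
  set Q' := Cfsg.pCore p ↥G' with hQ'def
  haveI hQ'n : Q'.Normal := Cores.pCore_normal p _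
  have hRQ' : R.subgroupOf G' ≤ Q' :=
    Cores.le_pCore (hRn.subgroupOf G') ((hQp.to_le inf_le_left).comap_subtype)
  have hQ'B : Q' ≤ B.subgroupOf G' := hP₁B ▸ Cores.pCore_le_sylow P₁
  have hE1 : centralizer (Q' : Set ↥G') ≤ Q' := fun x hx => hRQ' (show (x : G) ∈ R from hCR
    (mem_centralizer_iff.2 fun y hy => congrArg Subtype.val (mem_centralizer_iff.1 hx ⟨y, hRG hy⟩ (hRQ' hy))))
  have hle' : ∀ H : Subgroup ↥G', (P₁ : Subgroup ↥G') ≤ H → H ≠ ⊤ → H ≤ M.subgroupOf G' := by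
    intro H hH hHtop
    by_contra hcon
    refine hHtop ?_
    have := hG'max (H.map G'.subtype) (fun b hb => ⟨⟨b, hBG hb⟩, hH (hP₁B.ge hb), rfl⟩) (map_subtype_le _)
      (fun hle => hcon fun y hy => hle ⟨y, hy, rfl⟩)
    rw [← comap_map_eq_self_of_injective G'.subtype_injective H, this]
    exact subgroupOf_self G'
  have hBM : (P₁ : Subgroup ↥G') ≤ M.subgroupOf G' := hP₁B ▸ fun x hx => h.sylow_le (hBS hx)
  have hM'ne : M.subgroupOf G' ≠ ⊤ := fun e => hGM (subgroupOf_eq_top.1 e)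
  have hM'co : IsCoatom (M.subgroupOf G') :=
    ⟨hM'ne, fun H hH => by_contra fun hne' => hH.not_ge (hle' H (hBM.trans hH.le) hne')⟩
  have hE2 : ∃! M' : Subgroup ↥G', IsCoatom M' ∧ (P₁ : Subgroup ↥G') ≤ M' :=
    ⟨_, ⟨hM'co, hBM⟩, fun H hH => (hH.1.le_iff.1 (hle' H hH.2 hH.1.1)).resolve_left hM'ne |>.symm⟩
  -- the map onto `SL₂`
  have hGD : ∀ g : ↥G', mk (g : G) ∈ ⨆ j, E j := fun g => hLD ⟨g, hGL g.2, rfl⟩
  let π₀ : ↥G' →* SL(2, c.F i₀) := (c.π i₀).comp ((mk.comp G'.subtype).codRestrict (⨆ j, E j) hGD)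
  have hπ₀up : ∀ t, upSL t ∈ π₀.range := fun t => by
    obtain ⟨u, hu, hut⟩ := c.exists_mem_U fun _ => 0
    obtain ⟨u, hu, hut⟩ := c.exists_mem_U (Function.update (fun _ => 0) i₀ t)
    obtain ⟨b, hb, rfl⟩ : u ∈ B.map mk := by rw [hBU]; exact hu
    refine ⟨⟨b, hBG hb⟩, ?_⟩
    show c.π i₀ _ = _
    rw [← Function.update_self i₀ t (fun _ => 0), ← hut i₀]
    rfl
  have hπ₀ : Function.Surjective π₀ := by
    rw [← MonoidHom.range_eq_top]
    by_contra hne'
    have htri : ∀ g : ↥G', ∀ i, ((c.π i ⟨mk g, hGD g⟩ : SL(2, c.F i)) : Matrix (Fin 2) (Fin 2) (c.F i)) 1 0 = 0 := by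
      intro g i
      by_cases hi : i = i₀
      · subst hi
        by_contra hc
        exact hne' (eq_top_of_upper hπ₀up ⟨g, rfl⟩ hc)
      · have h1 : E₁ ≤ ((Cfsg.upperUnipotentSL2 (c.F i)).comap (c.π i)).map (⨆ j, E j).subtype := by
          refine sup_le (fun y hy => ?_) fun y hy => ?_
          · refine ⟨⟨y, le_iSup E i₀ hy⟩, ?_, rfl⟩
            refine Subgroup.mem_comap.2 ?_
            rw [c.off_comp i₀ ⟨y, le_iSup E i₀ hy⟩ hy i hi]
            exact one_mem _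
          · refine ⟨⟨y, hy.2⟩, ?_, rfl⟩
            obtain ⟨t, ht⟩ := c.coord_of_mem hy i
            refine Subgroup.mem_comap.2 ?_
            rw [ht]; exact RankOne.upSL_mem t
        obtain ⟨y, hy, hyg⟩ := h1 (hGE ⟨g, g.2, rfl⟩)
        obtain ⟨t, ht⟩ := RankOne.mem_upperUnipotentSL2.1 hy
        rw [show (⟨mk g, hGD g⟩ : ↥(⨆ j, E j)) = y from Subtype.ext hyg.symm, ht]
        simp [RankOne.coe_upSL]
    set NU := normalizer (U : Set (G ⧸ C)) with hNU
    have hNUne : NU.comap mk ≠ ⊤ := by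
      intro e
      refine hUne (le_bot_iff.1 (le_trans ?_ hcore.le))
      refine Cores.le_pCore (normalizer_eq_top_iff.1 (top_le_iff.1 fun y _ => ?_)) hUp
      obtain ⟨g, rfl⟩ := hsurj y
      exact (e.ge (mem_top g) : g ∈ NU.comap mk)
    have hSN : (S : Subgroup G) ≤ NU.comap mk := by
      intro s hs
      show mk s ∈ normalizer (U : Set (G ⧸ C))
      rw [mem_normalizer_iff_map_conj_eq]
      refine eq_of_le_of_card_ge ?_ (card_map_of_injective (MulAut.conj _).injective).ge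
      rintro _ ⟨u, hu, rfl⟩
      exact ⟨Tb.1.mul_mem (Tb.1.mul_mem (⟨s, hs, rfl⟩ : mk s ∈ (Tb : Subgroup (G ⧸ C))) hu.1)
        (Tb.1.inv_mem (⟨s, hs, rfl⟩ : mk s ∈ (Tb : Subgroup (G ⧸ C)))), hDn.conj_mem u hu.2 _⟩
    refine hGM (fun g hg => h.uniq _ hSN hNUne (?_ : mk g ∈ NU))
    rw [hNU, mem_normalizer_iff_map_conj_eq]
    refine eq_of_le_of_card_ge ?_ (card_map_of_injective (MulAut.conj _).injective).ge
    rintro _ ⟨u, hu, rfl⟩
    exact c.conj_mem_U (g := ⟨mk g, hGD ⟨g, hg⟩⟩) (htri ⟨g, hg⟩) hu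
  let π : ↥G' →* Matrix.ProjectiveSpecialLinearGroup (Fin 2) (c.F i₀) :=
    (QuotientGroup.mk' (Subgroup.center SL(2, c.F i₀))).comp π₀
  have hπ : Function.Surjective π := (QuotientGroup.mk'_surjective _).comp hπ₀
  haveI : π.ker.Normal := inferInstance
  haveI : CharP (c.F i₀) p := (CharP.charP_iff_prime_eq_zero (Fact.out : p.Prime)).2 (c.natCast_eq_zero i₀)
  have hE' : Cfsg.IsPushingUpSituation p (P₁ : Subgroup ↥G') := by
    refine ⟨fun e => hM'ne (top_le_iff.1 (e.le.trans bot_le)), ⟨P₁, rfl⟩, hE1, hE2, π.ker, inferInstance,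
      c.F i₀, inferInstance, inferInstance, c.n i₀, c.card i₀, ⟨QuotientGroup.quotientKerEquivOfSurjective π hπ⟩⟩
  -- the Sylow subgroup goes to the upper unitriangular group
  have hupB : ∀ b ∈ (P₁ : Subgroup ↥G'), ∃ t, π₀ b = upSL t := fun b hb => by
    have hbU : mk (b : G) ∈ U := by rw [← hBU]; exact ⟨b, hP₁B.le hb, rfl⟩
    exact c.coord_of_mem hbU i₀
  have honto : ∀ t, ∃ b ∈ (P₁ : Subgroup ↥G'), π₀ b = upSL t := fun t => by
    obtain ⟨u, hu, hut⟩ := c.exists_mem_U (Function.update (fun _ => 0) i₀ t)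
    obtain ⟨b, hb, rfl⟩ : u ∈ B.map mk := by rw [hBU]; exact hu
    refine ⟨⟨b, hBG hb⟩, hP₁B.ge hb, ?_⟩
    show c.π i₀ _ = _
    rw [← Function.update_self i₀ t (fun _ => 0), ← hut i₀]
    rfl
  obtain ⟨gn, hgn⟩ := hπ₀ (nSL (c.F i₀))
  have hn10 : ∀ t, nSL (c.F i₀) ≠ upSL t ∧ nSL (c.F i₀) ≠ -upSL t := fun t =>
    ⟨fun e => by
      have := congrArg (fun m : SL(2, c.F i₀) => (m : Matrix (Fin 2) (Fin 2) (c.F i₀)) 1 0) e
      simp [nSL, Matrix.SpecialLinearGroup.coe_mul, Matrix.mul_apply, Fin.sum_univ_two, RankOne.coe_upSL,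
        RankOne.coe_loSL] at this,
    fun e => by
      have := congrArg (fun m : SL(2, c.F i₀) => (m : Matrix (Fin 2) (Fin 2) (c.F i₀)) 1 0) e
      simp [nSL, Matrix.SpecialLinearGroup.coe_mul, Matrix.mul_apply, Fin.sum_univ_two, RankOne.coe_upSL,
        RankOne.coe_loSL] at this⟩
  have hsgn : sgnKer π₀ ⊔ (P₁ : Subgroup ↥G') ≠ ⊤ := by
    intro e
    haveI := sgnKer_normal π₀
    obtain ⟨k, hk, b, hb, he⟩ := mem_sup_of_normal_left.1 (e.ge (mem_top gn))
    obtain ⟨t, ht⟩ := hupB b hb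
    rw [← he, map_mul, ht] at hgn
    rcases hk with hk | hk <;> rw [hk] at hgn
    · exact (hn10 t).1 (by rw [← hgn, one_mul])
    · exact (hn10 t).2 (by rw [← hgn, neg_one_mul])
  have hkerT : ∀ b ∈ (P₁ : Subgroup ↥G'), π₀ b = 1 → b ∈ Q' := by
    intro b hb hb1
    refine PushingUp.inf_le_pCore hE' π₀.ker (fun e => hsgn (top_le_iff.1 (e.ge.trans ?_))) ⟨hb1, hb⟩
    exact sup_le_sup_right (fun k hk => Or.inl hk) _
  -- the centre of `B` is not normal in `G'`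
  have hZc : ¬ ((P₁ : Subgroup ↥G') ⊓ centralizer ((P₁ : Subgroup ↥G') : Set ↥G')).Normal := by
    intro hn
    haveI := hn
    set C' := centralizer (((P₁ : Subgroup ↥G') ⊓ centralizer ((P₁ : Subgroup ↥G') : Set ↥G') :
      Subgroup ↥G') : Set ↥G')
    have hPC : (P₁ : Subgroup ↥G') ≤ C' := fun b hb z hz => (hz.2 b hb).symm
    have hC' : C' = ⊤ := by
      by_contra hne'
      have h1 : (P₁ : Subgroup ↥G') ≤ Q' := (le_inf hPC le_rfl).trans
        (PushingUp.inf_le_pCore hE' C' (by rwa [sup_eq_left.2 hPC]))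
      obtain ⟨b, hb, hb1⟩ := honto 1
      obtain ⟨t, ht⟩ := hupB _ (Cores.pCore_le_sylow P₁ (hQ'n.conj_mem _ (h1 hb) gn))
      rw [map_mul, map_mul, map_inv, hgn, hb1, nSL_up, mul_inv_cancel_right] at ht
      have := congrArg (fun m : SL(2, c.F i₀) => (m : Matrix (Fin 2) (Fin 2) (c.F i₀)) 1 0) ht
      simp [RankOne.coe_upSL, RankOne.coe_loSL] at this
    obtain ⟨v, hv⟩ := c.lift (Function.update (fun _ => 0) i₀ (1, 0))
    have hvU : v ∈ fixS (zAct (V := V)) U := c.mem_fix_U.2 fun i => by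
      rw [hv]
      by_cases hi : i = i₀
      · subst hi; rw [Function.update_self]
      · rw [Function.update_of_ne hi]; rfl
    have hvB : FFMinimal.gval v ∈ B := hJB ((hZmem _).1 (hfixZ v hvU)).1
    set vP : ↥G' := ⟨FFMinimal.gval v, hBG hvB⟩
    have hvP : vP ∈ (P₁ : Subgroup ↥G') ⊓ centralizer ((P₁ : Subgroup ↥G') : Set ↥G') :=
      ⟨hP₁B.ge hvB, fun b hb => Subtype.ext
        (mem_centralizer_iff.1 (hBZ (hP₁B.le hb)) _ (hfixZ v hvU)).symm⟩
    obtain ⟨g, hg⟩ := hπ₀ (RankOne.loSL 1)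
    have hcomm : vP * g = g * vP := (hC'.ge (mem_top g)) vP hvP
    have hfix : zAct (V := V) (mk (g : G)) v = v := by
      refine FFMinimal.gval_injective ?_
      rw [hval, mul_inv_eq_iff_eq_mul]
      exact (congrArg Subtype.val hcomm).symm
    have hmv := c.equiv i₀ ⟨mk (g : G), hGD g⟩ v
    rw [hfix, show c.π i₀ ⟨mk (g : G), hGD g⟩ = RankOne.loSL 1 from hg, hv, Function.update_self,
      FFMinimal.mulv_lo] at hmv
    simp at hmv
  -- `S_Φ(B)` is trivial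
  let eB : ↥(P₁ : Subgroup ↥G') ≃* ↥B :=
    (MulEquiv.subgroupCongr hP₁B).trans (subgroupOfEquivOfLe hBG)
  have hTB := PushingUp.map_frattiniJoin eB (P₁.2)
  have hΦ : Cfsg.frattiniOfMinimalCLJoin p ↥(P₁ : Subgroup ↥G') = ⊥ := by
    by_contra hne'
    have hTn := ((PushingUp.center_or_frattiniJoin_normal hE').resolve_left hZc)
    have hK : Cfsg.inducedFunctor (kFun p) (S : Subgroup G) =
        (Cfsg.frattiniOfMinimalCLJoin p ↥B).map B.subtype := by
      rcases induced_kFun (p := p) S.2 with ⟨h0, -⟩ | ⟨-, e⟩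
      · refine absurd ?_ hne'
        rw [← hBdef, ← hTB, Subgroup.map_eq_bot_iff_of_injective _ eB.injective] at h0
        exact h0
      · exact e
    have hKe : Cfsg.inducedFunctor (kFun p) (S : Subgroup G) =
        ((Cfsg.frattiniOfMinimalCLJoin p ↥(P₁ : Subgroup ↥G')).map (P₁ : Subgroup ↥G').subtype).map G'.subtype := by
      rw [hK, ← hTB, Subgroup.map_map, Subgroup.map_map]
      rfl
    have hKc : (kFun p ↥(S : Subgroup G)).Characteristic :=
      characteristic_iff_map_eq.2 fun φ => kFun_isCharPFunctor.2 _ _ S.2 φ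
    set K := Cfsg.inducedFunctor (kFun p) (S : Subgroup G) with hKdef
    refine hGM (le_trans ?_ (h.uniq _ (le_normalizer_of_char hKc) fun e => h.noK (normalizer_eq_top_iff.1 e)))
    intro y hy
    rw [mem_normalizer_iff_map_conj_eq]
    refine eq_of_le_of_card_ge ?_ (card_map_of_injective (MulAut.conj _).injective).ge
    show K.map _ ≤ K
    rw [hKe]
    rintro _ ⟨_, ⟨w, hw, rfl⟩, rfl⟩
    exact ⟨⟨y, hy⟩ * w * ⟨y, hy⟩⁻¹, hTn.conj_mem w hw _, rfl⟩
  -- the realisation of `B` in `G'`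
  set τ := (P₁ : Subgroup ↥G').subtype with hτdef
  obtain ⟨Q₀, hQ₀, hmz⟩ := PushingUp.exists_max_omega p ↥(P₁ : Subgroup ↥G')
  have hΦ₀ : PushingUp.phi p Q₀ ≤ ⊥ := by
    rw [← hΦ, ← PushingUp.phi_eq_frattini (P₁.2.to_subgroup Q₀)]
    exact le_iSup (fun X : {X : Subgroup ↥(P₁ : Subgroup ↥G') // Cfsg.IsMinimalCentrallyLarge X ∧
      Nat.card ↥(Cfsg.omegaOneCenter p X) = Cfsg.maxOmegaCenterOfMinimalCL p ↥(P₁ : Subgroup ↥G')} =>
        (frattini ↥(X : Subgroup ↥(P₁ : Subgroup ↥G'))).map (X : Subgroup ↥(P₁ : Subgroup ↥G')).subtype)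
      ⟨Q₀, hQ₀, hmz⟩
  have hQ₀p : ∀ a ∈ Q₀, a ^ p = 1 := fun a ha =>
    mem_bot.1 (hΦ₀ (subset_closure (Or.inl ⟨a, ha, rfl⟩)))
  have hQ₀ab : IsMulCommutative Q₀ := ⟨⟨fun a b => Subtype.ext (commutatorElement_eq_one_iff_mul_comm.mp
    (mem_bot.mp (hΦ₀ (subset_closure (Or.inr ⟨_, a.2, _, b.2, rfl⟩)))))⟩⟩
  have hmcl := (S3007.result _ P₁.2 Q₀ Q₀ hQ₀ hQ₀).2.2.2.2 hQ₀ab
  have hQ₀A : Q₀ ∈ Cfsg.maxAbelianSubgroups ↥(P₁ : Subgroup ↥G') := (hmcl Q₀).1 hQ₀
  have hjoin : Cfsg.minimalCentrallyLargeJoin ↥(P₁ : Subgroup ↥G') =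
      Cfsg.thompsonSubgroupA ↥(P₁ : Subgroup ↥G') := by
    rw [Cfsg.minimalCentrallyLargeJoin, Cfsg.thompsonSubgroupA]
    congr 1
    ext A
    exact hmcl A
  have hJL : Cfsg.IsCentrallyLarge (Cfsg.thompsonSubgroupA ↥(P₁ : Subgroup ↥G')) :=
    hjoin ▸ centrallyLarge_minimalJoin
  have hCJ : centralizer (Cfsg.thompsonSubgroupA ↥(P₁ : Subgroup ↥G') : Set ↥(P₁ : Subgroup ↥G')) ≤
      center ↥(P₁ : Subgroup ↥G') := by
    intro z hz
    have hzQ : z ∈ Q₀ := (maxAbelian_centralizer hQ₀A).le (fun a ha => hz a (le_sSup hQ₀A ha))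
    have hzB : ((z : ↥G') : G) ∈ B := hP₁B.le z.2
    have hzp : ((z : ↥G') : G) ^ p = 1 := by
      have := congrArg (fun x : ↥(P₁ : Subgroup ↥G') => ((x : ↥G') : G)) (hQ₀p z hzQ)
      simpa using this
    -- the elementary abelian subgroups of `S` of largest order
    have hzA : ∀ A ∈ maxIn (elemAb p) (S : Subgroup G), ((z : ↥G') : G) ∈ centralizer (A : Set G) := by
      intro A hA a ha
      have hAB : A ≤ B := (hAJ A hA).trans hJB
      set A' := A.comap (G'.subtype.comp τ) with hA'def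
      have hinj : Function.Injective (G'.subtype.comp τ) := G'.subtype_injective.comp Subtype.val_injective
      have hA'map : A'.map (G'.subtype.comp τ) = A := map_comap_eq_self (fun x hx =>
        ⟨⟨⟨x, hBG (hAB hx)⟩, hP₁B.ge (hAB hx)⟩, rfl⟩)
      have hA' : A' ∈ Cfsg.maxAbelianSubgroups ↥(P₁ : Subgroup ↥G') := by
        refine ⟨(CentrallyLarge.abelian_iff A').2 fun x hx y hy => hinj ?_, fun D hD => ?_⟩
        · rw [map_mul, map_mul]
          exact (PLocal.elemAb_le_centralizer hA.2.1 hx) _ hy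
        · refine (hQ₀A.2 D hD).trans ?_
          rw [← card_map_of_injective (K := A') hinj, hA'map, ← card_map_of_injective (K := Q₀) hinj]
          refine hA.2.2 _ ?_ (PLocal.elemAb_map _ ⟨hQ₀ab, hQ₀p⟩)
          rintro _ ⟨x, -, rfl⟩
          exact hBS (hP₁B.le x.2)
      obtain ⟨a', ha', hae⟩ : a ∈ A'.map (G'.subtype.comp τ) := hA'map.ge ha
      have := congrArg (G'.subtype.comp τ) (hz a' (le_sSup hA' ha'))
      rw [map_mul, map_mul, hae] at this
      exact this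
    have hzJ : ((z : ↥G') : G) ∈ centralizer (J : Set G) := by
      have : J ≤ centralizer ({((z : ↥G') : G)} : Set G) := by
        rw [hJdef, PLocal.thompsonSubgroupOf_eq]
        exact sSup_le fun A hA a ha => mem_centralizer_singleton_iff.2 (hzA A hA a ha)
      exact fun j hj => mem_centralizer_singleton_iff.1 (this hj)
    have hzZ : ((z : ↥G') : G) ∈ Z := (hZmem _).2
      ⟨hAJ A₁ hA₁ (PLocal.mem_of_centralizes hA₁ (hBS hzB) hzp (hzA A₁ hA₁)), hzJ, hzp⟩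
    exact mem_center_iff.2 fun b => Subtype.ext (Subtype.ext
      (mem_centralizer_iff.1 (hBZ (hP₁B.le b.2)) _ hzZ).symm)
  have hjtop : Cfsg.thompsonSubgroupA ↥(P₁ : Subgroup ↥G') = ⊤ := by
    rw [← centralizer_centralizer_eq (CL.large hJL)]
    exact top_le_iff.mp fun x _ z hz => (mem_center_iff.mp (hCJ hz) x).symm
  have hτr : τ.range = (P₁ : Subgroup ↥G') := Subgroup.range_subtype _
  have hside : PushingUp.Side p τ :=
    { inj := Subtype.val_injective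
      sit := hτr.symm ▸ hE'
      jtop := hjtop
      large := hjtop ▸ hJL
      zel := fun z hz => hQ₀p z ((maxAbelian_centralizer hQ₀A).le fun a _ => mem_center_iff.1 hz a)
      bad := fun hn => hZc (by rw [← hτr, ← PushingUp.map_center Subtype.val_injective]; exact hn) }
  have ha : ∀ A ∈ Cfsg.maxAbelianSubgroups ↥(P₁ : Subgroup ↥G'), Cfsg.IsCentralizerLarge A := fun A hA =>
    CL.large ((hmcl A).mpr hA).1
  -- the descent
  set N' := (F.subgroupOf G').normalCore with hN'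
  haveI : N'.Normal := normalCore_normal _
  set R' := R.subgroupOf G' with hR'
  haveI hR'n : R'.Normal := hRn.subgroupOf G'
  have hR'p : IsPGroup p R' := (hQp.to_le inf_le_left).comap_subtype
  have hk : ∀ k : ↥G', π₀ k = 1 ∨ π₀ k = -1 → ∀ w ∈ R', ⁅w, k⁆ ∈ N' := by
    intro k hk w hw g
    show ((g * ⁅w, k⁆ * g⁻¹ : ↥G') : G) ∈ F
    have h1 : g * ⁅w, k⁆ * g⁻¹ = ⁅g * w * g⁻¹, g * k * g⁻¹⁆ := by simp [commutatorElement_def, mul_assoc]
    rw [h1]
    refine h.comm (commutator_mem_commutator ?_ ?_)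
    · exact hQn.conj_mem _ hw.1 (g : G)
    · have h2 : g * k * g⁻¹ ∈ sgnKer π₀ := (sgnKer_normal π₀).conj_mem k hk g
      exact hle' _ le_sup_right hsgn (mem_sup_left h2)
  have hrc := residual_comm hside ha hp2 π₀ hπ₀ (fun b => hupB _ b.2)
    (fun t => by obtain ⟨b, hb, e⟩ := honto t; exact ⟨⟨b, hb⟩, e⟩)
    (fun b hb => PushingUp.Real.mem_T.2 (hkerT _ b.2 hb)) R' N' hRQ' hk
  have hres : ∀ x : ↥G', (orderOf x).Coprime p → (x : G) ∈ M := by
    intro x hx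
    have hmove : ∀ q ∈ Q, (x : G) * q * (x : G)⁻¹ * q⁻¹ ∈ F := by
      intro q hq
      have hdR := hQL x (hGL x.2) q hq
      have h1 : (⟨_, hRG hdR⟩ : ↥G') ∈ N' := by
        refine coprime_step (H := G') hx (q := q) (by simp [mul_assoc]) ?_ (hrc x hx _ hdR)
        obtain ⟨k, hk⟩ := hR'p ⟨⟨_, hRG hdR⟩, hdR⟩
        exact ⟨k, by simpa using congrArg Subtype.val hk⟩
      exact (normalCore_le _ h1 : (⟨_, hRG hdR⟩ : ↥G') ∈ F.subgroupOf G')
    rw [h.fixF, mem_normalizer_iff_map_conj_eq]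
    refine eq_of_le_of_card_ge ?_ (card_map_of_injective (MulAut.conj _).injective).ge
    rintro _ ⟨v, hv, rfl⟩
    have := F.mul_mem (hmove v (h.le_core hv)) hv
    simpa using this
  refine hM'ne (top_le_iff.1 ?_)
  rw [← PReduced.pResidual_sup_sylow P₁]
  exact sup_le ((closure_le _).2 fun x hx => hres x hx) hBM

end Cfsg.Agent.CharFocal.Duo
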